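import Cfsg.Agent.BlocksB.KleinDefect.Isometry
import Cfsg.Agent.BlocksB.Cyclic.Correspondent

/-!
# The data of a block with a four-group as defect group and of its correspondent
-/

set_option autoImplicit false
set_option linter.style.haveILetI false
set_option linter.unusedSectionVars false

namespace CfsgLib.KleinDefect

open Cfsg Finset CfsgLib.Block CfsgLib.Block.Chr CfsgLib.BrauerPairs CfsgLib.BlockStar
  CfsgLib.BlockB CfsgLib.SL2C CfsgLib.Cyclic
open scoped Classical

universe u

variable {M : Ideal AlgInt} [M.IsPrime] [Fact (Nat.Prime 2)] [CharP (Residue M) 2]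
  {G : Type u} [Group G] [Fintype G]

local notation "C[" Q "]" => Subgroup.centralizer (SetLike.coe Q)
local notation "N[" Q "]" => Subgroup.normalizer (SetLike.coe Q)

/-- **A block and its correspondent have data of the same inertial index.** -/
theorem exists_kleinData_correspondent (hM : IsPModular 2 M) {B : Set (IrrCharacter G)}
    {P H : Subgroup G} [Fintype H] (hPD : IsDefectGroup 2 M B P) (hV : IsKleinFour P)
    (hPH : P ≤ H) (hNH : (N[P] : Subgroup G) ≤ H) {c : Set (IrrCharacter H)}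
    (hcD : IsDefectGroup 2 M c (P.subgroupOf H)) (hc : IsInducedBlock M H c B) :
    ∃ (b : Set (IrrCharacter C[P])) (b' : Set (IrrCharacter C[P.subgroupOf H])) (n : ℕ),
      KleinData (M := M) B P b n ∧ KleinData (M := M) c (P.subgroupOf H) b' n := by
  obtain ⟨hcB, hB, hcong⟩ := hc
  have hC : (C[P] : Subgroup G) ≤ H := (Subgroup.centralizer_le_normalizer _).trans hNH
  haveI := hV
  have hV' : IsKleinFour (P.subgroupOf H) :=
    ⟨by rw [Nat.card_congr (Subgroup.subgroupOfEquivOfLe hPH).toEquiv]; exact IsKleinFour.card_four,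
      by rw [Monoid.exponent_eq_of_mulEquiv (Subgroup.subgroupOfEquivOfLe hPH)]
         exact IsKleinFour.exponent_two⟩
  -- a block of the centralizer inside the subgroup
  obtain ⟨e₀, hmax⟩ := exists_isMaxPair (isBlk_idem hM hcB)
    (isDef_of_isDefectGroup hM hcB hcD)
  haveI := Fintype.ofFinite C[P.subgroupOf H]
  obtain ⟨b', hb', rfl⟩ := exists_idemIn_eq hM
    (show IsBlk (Residue M) C[P.subgroupOf H] e₀ from hmax.1.1.2)
  have hab' : ∀ x ∈ P.subgroupOf H, ∀ y ∈ P.subgroupOf H, x * y = y * x :=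
    commute_klein hV'
  have hind' : IsInducedBlock M C[P.subgroupOf H] b' c :=
    isInducedBlock_of_isBrauerPairOf hM
      (fun x hx => Subgroup.mem_centralizer_iff.2 fun y hy => hab' y hy x hx)
      ((isBrauerPairOf_iff hM).2 ⟨⟨hmax.1.1.1, hb'⟩, hcB, hmax.1⟩)
  -- the block of the centralizer in the whole group
  haveI := Fintype.ofFinite C[P]
  let σ : C[P.subgroupOf H] ≃* C[P] :=
    { toFun := fun x => ⟨((x : H) : G), (mem_centralizer_subgroupOf hPH _).1 x.2⟩
      invFun := fun x => ⟨⟨(x : G), hC x.2⟩, (mem_centralizer_subgroupOf hPH _).2 x.2⟩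
      left_inv := fun x => rfl
      right_inv := fun x => rfl
      map_mul' := fun x y => rfl }
  set b : Set (IrrCharacter C[P]) := mapSet σ b'
  have hb : IsPBlock M b := isPBlock_mapSet σ hb'
  have hPC : P ≤ C[P] := fun x hx => Subgroup.mem_centralizer_iff.2 fun y hy =>
    commute_klein hV y hy x hx
  have hP : IsPGroup 2 P := by
    obtain ⟨k, hk⟩ := IsPGroup.iff_card.mp hmax.1.1.1
    exact IsPGroup.of_card ((Nat.card_congr (Subgroup.subgroupOfEquivOfLe hPH).toEquiv).symm.trans hk)
  have hpair : IsBrauerPairOf 2 M B P b := by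
    obtain ⟨χ, hχ⟩ := exists_mem_block hB
    obtain ⟨ψ, hψ⟩ := exists_mem_block hcB
    refine ⟨⟨hP, hb⟩, hB, ?_⟩
    rintro ξ ⟨ξ', hξ', rfl⟩
    have hA := isIntClass_blockCoeff (M := M) hB
    have h1 := induced_cong _ (hind'.2.2 ξ' hξ' ψ hψ) (isIntClass_resFun (H := H) hA)
    have h2 := induced_cong _ (hcong ψ hψ χ hχ) hA
    rw [omega_blockCoeff, if_pos hχ] at h2
    have h3 := memLocalIdeal_sub_trans h1 h2
    have heq : brauerOmega P (blockCoeff B) (mapChar σ ξ' : C[P] → ℂ) =
        omega (ξ' : C[P.subgroupOf H] → ℂ)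
          (resFun C[P.subgroupOf H] (resFun H (blockCoeff B))) := by
      rw [brauerOmega, omega, finsum_eq_sum_of_fintype, sum_div, ← σ.toEquiv.sum_comp]
      exact sum_congr rfl fun x _ => rfl
    rwa [heq]
  have hind : IsInducedBlock M C[P] b B := isInducedBlock_of_isBrauerPairOf hM hPC hpair
  have S : KleinData (M := M) B P b
      ((C[P] : Subgroup G).relIndex (stab P (idemIn M C[P] b))) := ⟨hM, hB, hPD, hV, hind, rfl⟩
  have S' : KleinData (M := M) c (P.subgroupOf H) b'
      ((C[P.subgroupOf H] : Subgroup H).relIndex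
        (stab (P.subgroupOf H) (idemIn M C[P.subgroupOf H] b'))) := ⟨hM, hcB, hcD, hV', hind', rfl⟩
  have hemb : idemIn M C[P] b = emb H (idemIn M C[P.subgroupOf H] b') := by
    refine coeff_ext fun g => ?_
    by_cases hg : g ∈ (C[P] : Subgroup G)
    · obtain ⟨x, rfl⟩ : ∃ x : C[P], (x : G) = g := ⟨⟨g, hg⟩, rfl⟩
      rw [coeff_emb_of_eq H _ (show (((σ.symm x : C[P.subgroupOf H]) : H) : G) = (x : G) from rfl),
        coeff_idemIn,
        coeff_idemIn, subgroupBlockCoeff_coe, subgroupBlockCoeff_coe,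
        ← blockCoeff_map σ b', MulEquiv.apply_symm_apply]
    · rw [coeff_idemIn, subgroupBlockCoeff_not_mem b hg, red_zero]
      by_cases hgH : g ∈ H
      · rw [coeff_emb_of_eq H _ (h := ⟨g, hgH⟩) rfl, coeff_idemIn,
          subgroupBlockCoeff_not_mem b' fun h => hg ((mem_centralizer_subgroupOf hPH _).1 h),
          red_zero]
      · rw [coeff_emb_not_mem H _ hgH]
  have hstab : stab P (idemIn M C[P] b) =
      (stab (P.subgroupOf H) (idemIn M C[P.subgroupOf H] b')).map H.subtype := by
    ext g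
    constructor
    · intro hg
      refine ⟨⟨g, hNH hg.1⟩, ⟨(mem_normalizer_subgroupOf' hPH _).2 hg.1, emb_injective H ?_⟩, rfl⟩
      rw [← cj_emb, ← hemb]
      exact hg.2
    · rintro ⟨x, hx, rfl⟩
      refine ⟨(mem_normalizer_subgroupOf' hPH _).1 hx.1, ?_⟩
      rw [hemb]
      exact (cj_emb H x _).trans (congrArg (emb H) hx.2)
  have hn : (C[P] : Subgroup G).relIndex (stab P (idemIn M C[P] b)) =
      (C[P.subgroupOf H] : Subgroup H).relIndex
        (stab (P.subgroupOf H) (idemIn M C[P.subgroupOf H] b')) := by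
    rw [hstab,
      ← Subgroup.relIndex_map_map_of_injective (C[P.subgroupOf H] : Subgroup H)
        (stab (P.subgroupOf H) (idemIn M C[P.subgroupOf H] b')) H.subtype_injective]
    congr 1
    ext g
    exact ⟨fun hg => ⟨⟨g, hC hg⟩, (mem_centralizer_subgroupOf hPH _).2 hg, rfl⟩,
      fun ⟨x, hx, he⟩ => he ▸ (mem_centralizer_subgroupOf hPH x).1 hx⟩
  exact ⟨b, b', _, S, hn ▸ S'⟩

end CfsgLib.KleinDefect
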