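import Cfsg.Agent.BlocksB.KleinDefect.Relations
import Cfsg.Agent.BlocksB.Cyclic.Isometry

/-!
# Perfect isometries between blocks with four-groups as defect groups
-/

set_option autoImplicit false
set_option linter.style.haveILetI false
set_option linter.unusedSectionVars false

namespace CfsgLib.KleinDefect

open Cfsg Finset CfsgLib.Block CfsgLib.Block.Chr CfsgLib.BrauerPairs CfsgLib.BlockStar
  CfsgLib.BlockB CfsgLib.Cyclic
open scoped ComplexConjugate
open scoped Classical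

universe u v

variable {M : Ideal AlgInt} [M.IsPrime] [Fact (Nat.Prime 2)] [CharP (Residue M) 2]
  {G : Type u} [Group G] [Fintype G] {H : Type v} [Group H] [Fintype H]

local notation "Z[" x "]" => Subgroup.zpowers x
local notation "C[" Q "]" => Subgroup.centralizer (SetLike.coe Q)

/-- The sign of a row. -/
noncomputable def sgn {P : Subgroup G} [Fintype P] (a : IrrCharacter G → P → ℤ) (χ : IrrCharacter G) : ℤ :=
  ∏ v ∈ univ.erase (1 : P), a χ v

/-- The normalized row. -/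
noncomputable def pat {P : Subgroup G} [Fintype P] (a : IrrCharacter G → P → ℤ) (χ : IrrCharacter G) (u : P) :
    ℤ :=
  sgn a χ * a χ u

theorem three_signs {x y z : ℤ} (hx : x = 1 ∨ x = -1) (hy : y = 1 ∨ y = -1) (hz : z = 1 ∨ z = -1)
    (h : x * y * z = 1) : (x = 1 ∧ y = 1 ∧ z = 1) ∨ x + y + z = -1 := by
  rcases hx with rfl | rfl <;> rcases hy with rfl | rfl <;> rcases hz with rfl | rfl <;> simp_all

variable {B : Set (IrrCharacter G)} {P : Subgroup G} {c : Set (IrrCharacter C[P])} {n : ℕ}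
  [Fintype P] [Fintype B] {a : IrrCharacter G → P → ℤ}

/-- The values of two characters on a subsection are proportional. -/
theorem val_prop (V : KleinVals (M := M) P c n a) (χ ψ : IrrCharacter G) {u : P} (hu : u ≠ 1)
    {κ : ℂ} (hκ : (a χ u : ℂ) = κ * (a ψ u : ℂ)) {s : G} (h : PElt 2 (u : G) s) :
    val χ (u : G) s (subBlk 2 P (idemIn M C[P] c) (u : G)) =
      κ * val ψ (u : G) s (subBlk 2 P (idemIn M C[P] c) (u : G)) := by
  set f := subBlk 2 P (idemIn M C[P] c) (u : G)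
  set S0 := univ.filter (fun s : G => s ∈ C[Z[(u : G)]] ∧ ¬ 2 ∣ orderOf s)
  set w := fun φ : IrrCharacter G => fun s : G => val φ (u : G) s f
  have hI : ∀ φ φ' : IrrCharacter G, ∑ s ∈ S0, w φ s * conj (w φ' s) =
      (Nat.card C[Z[(u : G)]] : ℂ) *
        ((a φ u : ℂ) * conj ((a φ' u : ℂ)) * (Nat.card P : ℂ)⁻¹) := fun φ φ' => by
    rw [← V.contrib φ φ' u hu, contribR,
      mul_inv_cancel_left₀ (Nat.cast_ne_zero.2 Nat.card_pos.ne')]
  have h0 : ∑ s ∈ S0, ((‖w χ s - κ * w ψ s‖ : ℂ)) ^ 2 = 0 := by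
    simp only [← Complex.mul_conj', map_sub, map_mul, sub_mul, mul_sub, sum_sub_distrib]
    simp only [mul_assoc, ← mul_sum]
    simp only [← mul_assoc]
    rw [show ∑ s ∈ S0, w χ s * conj κ * conj (w ψ s) = conj κ * ∑ s ∈ S0, w χ s * conj (w ψ s) by
        rw [mul_sum]; exact sum_congr rfl fun s _ => by ring,
      show ∑ s ∈ S0, w ψ s * conj κ * conj (w ψ s) = conj κ * ∑ s ∈ S0, w ψ s * conj (w ψ s) by
        rw [mul_sum]; exact sum_congr rfl fun s _ => by ring, hI, hI, hI, hI, hκ, map_mul]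
    ring
  have h1 : ∀ s ∈ S0, ‖w χ s - κ * w ψ s‖ ^ 2 = 0 := by
    refine (sum_eq_zero_iff_of_nonneg fun _ _ => sq_nonneg _).1 ?_
    exact_mod_cast h0
  exact sub_eq_zero.1 (norm_eq_zero.1 ((pow_eq_zero_iff two_ne_zero).1
    (h1 s (mem_filter.2 ⟨mem_univ _, mem_cz.2 h.comm.eq.symm, h.reg⟩))))

/-- Combinations killed by the values are divisible by the centralizers of regular elements. -/
theorem div_centralizer_of_killed (hM : IsPModular 2 M) (S : KleinData (M := M) B P c n)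
    (V : KleinVals (M := M) P c n a) (co : B → ℂ) (hco : ∀ χ, MemLocalRing M (co χ))
    (h : ∀ u : P, u ≠ 1 → ∑ χ : B, co χ * (a χ.1 u : ℂ) = 0) {x : G} (hx : ¬ 2 ∣ orderOf x) :
    MemLocalRing M ((∑ χ : B, co χ * ((χ : IrrCharacter G) : G → ℂ) x) /
      (Nat.card (Subgroup.centralizer ({x} : Set G)) : ℂ)) := by
  set K := Subgroup.centralizer ({x} : Set G)
  obtain ⟨Q⟩ := (inferInstance : Nonempty (Sylow 2 K))
  set D := (Q : Subgroup K).map K.subtype
  haveI := Fintype.ofFinite D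
  have hDcard : Nat.card D = 2 ^ (Nat.card K).factorization 2 := by
    rw [Subgroup.card_map_of_injective K.subtype_injective]
    exact Sylow.card_eq_multiplicity Q
  have hcomm : ∀ d ∈ D, d * x = x * d := by
    rintro _ ⟨y, -, rfl⟩
    exact Subgroup.mem_centralizer_singleton_iff.1 y.2
  have hDp : IsPGroup 2 D := Q.isPGroup'.map _
  choose k ρ hρ using fun χ : B => isCharacter_irr (χ : IrrCharacter G)
  have hsum : ∑ w : D, ∑ χ : B, co χ * ((χ : IrrCharacter G) : G → ℂ) (x * w) =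
      ∑ χ : B, co χ * ((χ : IrrCharacter G) : G → ℂ) x := by
    rw [sum_eq_single (1 : D)]
    · simp
    · intro w _ hw
      refine V.vanish S co h ?_
      obtain ⟨j, hj⟩ := IsPGroup.iff_orderOf.1 hDp w
      rw [← Subgroup.orderOf_coe] at hj
      rw [Commute.orderOf_mul_eq_mul_orderOf_of_coprime (hcomm _ w.2).symm (by
        rw [hj]; exact ((hM.1.coprime_iff_not_dvd.2 hx).pow_left j).symm), hj]
      exact dvd_mul_of_dvd_right (dvd_pow_self 2 fun h0 => hw (Subtype.ext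
        (orderOf_eq_one_iff.1 (by rw [hj, h0, pow_zero])))) _
    · simp
  refine memLocalRing_div_card hM Nat.card_pos.ne' rfl ?_
  rw [← hsum, sum_comm, show ((2 : ℕ) : ℂ) ^ (Nat.card K).factorization 2 = (Nat.card D : ℂ) by
    rw [hDcard]; push_cast; rfl, sum_div]
  refine memLocalRing_sum fun χ _ => ?_
  rw [← mul_sum, mul_div_assoc]
  refine memLocalRing_mul (hco χ) (memLocalRing_of_isIntegral ?_)
  rw [div_eq_inv_mul, Nat.card_eq_fintype_card]
  have h := HeightExt.isIntegral_average (ρ χ) D x hcomm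
  simpa only [hρ χ] using h

/-- The scaled values on a subsection of the block are divisible by the centralizers. -/
theorem scaled_val_dvd (hM : IsPModular 2 M) (S : KleinData (M := M) B P c n)
    (χ : IrrCharacter G) {u s : G} (h : PElt 2 u s) {f : MonoidAlgebra (Residue M) G}
    (hf : IsPairOf 2 (idem M B) (Z[u], f)) :
    MemLocalRing M ((Nat.card P : ℂ) * val χ u s f /
      (Nat.card (Subgroup.centralizer ({u * s} : Set G)) : ℂ)) ∧
    MemLocalRing M (val χ u s f) := by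
  haveI := Fintype.ofFinite C[Z[u]]
  letI := irrFintype (G := C[Z[u]])
  obtain ⟨d, hd, hde⟩ := exists_idemIn_eq hM (show IsBlk (Residue M) C[Z[u]] f from hf.1.2)
  rw [← hde] at hf ⊢
  obtain ⟨j, hj⟩ := h.pow
  obtain ⟨k, -, hk⟩ := (Nat.dvd_prime_pow hM.1).1 (orderOf_dvd_of_pow_eq_one hj)
  have hind := isInducedBlock_of_isBrauerPairOf hM (zpowers_le_centralizer_zpowers u)
    ((isBrauerPairOf_iff hM).2 ⟨⟨hf.1.1, hd⟩, S.hB, hf⟩)
  have hle := blockDefect_le_of_induced hM hf.1.1 rfl (zpowers_le_centralizer_zpowers u) hind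
  choose lam Nc hlam _ _ hco using fun ξ : IrrCharacter C[Z[u]] =>
    exists_section_coeff (H := C[Z[u]]) hM (centralizer_zpowers_eq u) hk χ ξ
  have hlR : ∀ ξ, MemLocalRing M (lam ξ) := fun ξ =>
    memLocalRing_of_isIntegral (CfsgLib.Char.isIntegral_of_pow_eq_one (pow_pos hM.1.pos k) (hlam ξ))
  set s' : C[Z[u]] := ⟨s, h.mem⟩
  have hval : val χ u s (idemIn M C[Z[u]] d) = ∑ ξ ∈ univ.filter (· ∈ d),
      lam ξ * Nc ξ * (ξ : C[Z[u]] → ℂ) s' := by
    rw [val_idemIn hM χ h hd, subPart_eq_regPart hM hd,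
      regPart_of_not_dvd (by rw [← Subgroup.orderOf_coe]; exact h.reg), blockPart_eq_sum_inner]
    exact sum_congr rfl fun ξ _ => by rw [hco ξ]
  have hreg : Subgroup.centralizer ({u * s} : Set G) =
      (Subgroup.centralizer ({s'} : Set C[Z[u]])).map (C[Z[u]]).subtype := by
    have hu : u ∈ Z[u * s] := by
      have hcop : Nat.Coprime (orderOf u) (orderOf s) := by
        rw [hk]; exact (hM.1.coprime_iff_not_dvd.2 h.reg).pow_left k
      obtain ⟨a, ha⟩ := exists_pow_eq_self_of_coprime (x := u) hcop.symm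
      have h1 : ((u * s) ^ orderOf s) ^ a = u := by
        rw [h.comm.mul_pow, pow_orderOf_eq_one, mul_one, ha]
      have h2 := Subgroup.npow_mem_zpowers (u * s) (orderOf s * a)
      rwa [pow_mul, h1] at h2
    ext y
    rw [Subgroup.mem_centralizer_singleton_iff, Subgroup.mem_map]
    constructor
    · intro hy
      have hc1 : Commute y (u * s) := hy
      obtain ⟨i, hi⟩ := Subgroup.mem_zpowers_iff.1 hu
      have hc2 : Commute y u := hi ▸ hc1.zpow_right i
      refine ⟨⟨y, mem_cz.2 hc2.eq⟩, Subgroup.mem_centralizer_singleton_iff.2 (Subtype.ext ?_), rfl⟩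
      show y * s = s * y
      have h3 : u * (y * s) = u * (s * y) := by
        rw [← mul_assoc, ← hc2.eq, mul_assoc, hy, mul_assoc]
      exact mul_left_cancel h3
    · rintro ⟨z, hz, rfl⟩
      have h1 : (z : G) * s = s * z :=
        congrArg Subtype.val (Subgroup.mem_centralizer_singleton_iff.1 hz)
      show (z : G) * (u * s) = u * s * (z : G)
      rw [← mul_assoc, mem_cz.1 z.2, mul_assoc, h1, mul_assoc]
  refine ⟨?_, ?_⟩
  swap
  · rw [hval]
    exact memLocalRing_sum fun ξ _ => memLocalRing_mul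
      (memLocalRing_mul (hlR ξ) (natCast_mem_localRing _)) (irr_mem ξ s')
  rw [hreg, Subgroup.card_map_of_injective (C[Z[u]]).subtype_injective, hval, mul_sum, sum_div]
  refine memLocalRing_sum fun ξ hξ => ?_
  have hkey := scaled_term (Nat.card P) (lam ξ * Nc ξ) ((ξ : C[Z[u]] → ℂ) s')
    (Nat.card_pos (α := Subgroup.centralizer ({s'} : Set C[Z[u]]))).ne'
    (Subgroup.index_ne_zero_of_finite (H := Subgroup.centralizer ({s'} : Set C[Z[u]])))
    (irr_one ξ).2.ne'
  rw [Subgroup.card_mul_index, ← (irr_one ξ).1] at hkey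
  rw [hkey]
  refine memLocalRing_mul (memLocalRing_mul (memLocalRing_mul (hlR ξ) (natCast_mem_localRing _))
    (centralChar_mem ξ s')) ?_
  refine memLocalRing_div_card hM Nat.card_pos.ne' rfl ?_
  have hdvd : 2 ^ (Nat.card C[Z[u]]).factorization 2 ∣
      Nat.card P * charDegree (ξ : C[Z[u]] → ℂ) := by
    have h1 : sInf ((fun ψ : IrrCharacter C[Z[u]] =>
        (charDegree (ψ : C[Z[u]] → ℂ)).factorization 2) '' d) ≤
        (charDegree (ξ : C[Z[u]] → ℂ)).factorization 2 :=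
      Nat.sInf_le ⟨ξ, (mem_filter.1 hξ).2, rfl⟩
    have h2 : (Nat.card C[Z[u]]).factorization 2 - sInf ((fun ψ : IrrCharacter C[Z[u]] =>
        (charDegree (ψ : C[Z[u]] → ℂ)).factorization 2) '' d) ≤ blockDefect 2 B := hle
    rw [card_defectGroup hM S.hB S.hPD]
    refine dvd_trans (pow_dvd_pow 2 (show (Nat.card C[Z[u]]).factorization 2 ≤
      blockDefect 2 B + (charDegree (ξ : C[Z[u]] → ℂ)).factorization 2 by omega)) ?_
    rw [pow_add]
    exact mul_dvd_mul dvd_rfl (Nat.ordProj_dvd _ _)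
  obtain ⟨w, hw⟩ := hdvd
  rw [hw]
  push_cast
  rw [mul_div_cancel_left₀ _ (pow_ne_zero _ (Nat.cast_ne_zero.2 hM.1.ne_zero))]
  exact natCast_mem_localRing w

/-- On every subsection of the block the values are multiples of those of one member. -/
theorem pair_val (hM : IsPModular 2 M) (S : KleinData (M := M) B P c n)
    (V : KleinVals (M := M) P c n a) (hpm : ∀ χ ∈ B, ∀ u : P, u ≠ 1 → a χ u = 1 ∨ a χ u = -1)
    (x₁ : B) {u s : G} (h : PElt 2 u s) (hu : u ≠ 1)
    {f : MonoidAlgebra (Residue M) G} (hf : IsPairOf 2 (idem M B) (Z[u], f)) :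
    ∃ (w : P) (d : ℤ), w ≠ 1 ∧ ∀ χ : B,
      val χ.1 u s f = (a χ.1 w : ℂ) * ((d : ℂ) * val x₁.1 u s f) := by
  obtain ⟨g, hg⟩ := exists_conj_ple_max (isBlk_idem hM S.hB) S.maxPair hf
  rw [cjPair_zpowers] at hg
  set w : P := ⟨g * u * g⁻¹, PLE.le hg (Subgroup.mem_zpowers _)⟩
  have hw : w ≠ 1 := fun h0 => hu (conj_eq_one_iff.1 (congrArg Subtype.val h0))
  have hsub : cj (Residue M) g f = subBlk 2 P (idemIn M C[P] c) (w : G) :=
    ple_unique S.pair hg (subBlk_ple S.pair w.2)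
  have hfix : FixBy (Z[u] ⊔ Z[s]) f := hf.1.2.fixBy.mono (sup_le_cz h)
  refine ⟨w, a x₁.1 w, hw, fun χ => ?_⟩
  have h1 := val_conj hM χ.1 h g hf.1.2.idem hfix
  have h2 := val_conj hM x₁.1 h g hf.1.2.idem hfix
  rw [hsub] at h1 h2
  have h3 := val_prop V χ.1 x₁.1 hw (κ := (a χ.1 w : ℂ) * (a x₁.1 w : ℂ))
    (by rcases hpm x₁.1 x₁.2 w hw with e | e <;> rw [e] <;> simp) (h.conj g)
  rw [← h1, ← h2]
  show val χ.1 (w : G) _ _ = _
  rw [h3]
  ring

theorem exists_others (S : KleinData (M := M) B P c n) {u : P} (hu : u ≠ 1) :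
    ∃ v w : P, v ≠ 1 ∧ w ≠ 1 ∧ u ≠ v ∧ u ≠ w ∧ v ≠ w ∧ univ.erase (1 : P) = {u, v, w} := by
  obtain ⟨v, w, hvw, he⟩ := card_eq_two.1 (show ((univ.erase (1 : P)).erase u).card = 2 by
    rw [card_erase_of_mem (mem_erase.2 ⟨hu, mem_univ _⟩), card_erase_of_mem (mem_univ _), card_univ,
      ← Nat.card_eq_fintype_card, S.card_P])
  have hv : v ∈ (univ.erase (1 : P)).erase u := by rw [he]; simp
  have hw : w ∈ (univ.erase (1 : P)).erase u := by rw [he]; simp
  rw [mem_erase, mem_erase] at hv hw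
  refine ⟨v, w, hv.2.1, hw.2.1, hv.1.symm, hw.1.symm, hvw, ?_⟩
  rw [← insert_erase (mem_erase.2 ⟨hu, mem_univ _⟩), he]

section Patterns

variable (S : KleinData (M := M) B P c n) (V : KleinVals (M := M) P c n a)
  (hpm : ∀ χ ∈ B, ∀ u : P, u ≠ 1 → a χ u = 1 ∨ a χ u = -1)
include S V hpm

theorem sgn_pm (χ : B) : sgn a χ.1 = 1 ∨ sgn a χ.1 = -1 := by
  refine prod_induction _ (fun x => x = 1 ∨ x = -1) ?_ (Or.inl rfl) fun v hv =>
    hpm χ.1 χ.2 v (mem_erase.1 hv).1
  rintro x y (rfl | rfl) (rfl | rfl) <;> simp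

theorem pat_pm (χ : B) {u : P} (hu : u ≠ 1) : pat a χ.1 u = 1 ∨ pat a χ.1 u = -1 := by
  rcases sgn_pm S V hpm χ with e | e <;> rcases hpm χ.1 χ.2 u hu with e' | e' <;> simp [pat, e, e']

theorem prod_pat (χ : B) : ∏ v ∈ univ.erase (1 : P), pat a χ.1 v = 1 := by
  simp only [pat, prod_mul_distrib, prod_const, card_erase_of_mem (mem_univ (1 : P)), card_univ,
    ← Nat.card_eq_fintype_card, S.card_P]
  show sgn a χ.1 ^ 3 * sgn a χ.1 = 1
  rcases sgn_pm S V hpm χ with e | e <;> rw [e] <;> norm_num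

theorem pat_three (hn : n = 3) (χ : B) {u : P} (hu : u ≠ 1) : pat a χ.1 u = 1 := by
  obtain ⟨v, w, hv, hw, huv, huw, hvw, he⟩ := exists_others S hu
  simp only [pat, sgn, he, prod_insert (show u ∉ ({v, w} : Finset P) by simp [huv, huw]),
    prod_pair hvw, V.const hn χ.1 v u hv hu, V.const hn χ.1 w u hw hu]
  rcases hpm χ.1 χ.2 u hu with e | e <;> rw [e] <;> norm_num

theorem sum_pat (hn : n = 1) {u : P} (hu : u ≠ 1) : ∑ χ : B, pat a χ.1 u = 0 := by
  obtain ⟨v, w, hv, hw, huv, huw, hvw, he⟩ := exists_others S hu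
  have h := V.sum_orth S hv hw
  rw [if_neg fun h => hvw (((mem_filter.1 h).2.2).resolve_left (by omega))] at h
  rw [← h]
  refine sum_congr rfl fun χ _ => ?_
  simp only [pat, sgn, he, prod_insert (show u ∉ ({v, w} : Finset P) by simp [huv, huw]),
    prod_pair hvw]
  rcases hpm χ.1 χ.2 u hu with e | e <;> rw [e] <;> ring

/-- The pairing of a pattern with a row. -/
theorem bracket (p : P → ℤ) (hp : ∀ v : P, v ≠ 1 → p v = 1 ∨ p v = -1)
    (hp1 : ∏ v ∈ univ.erase (1 : P), p v = 1) (χ : B) :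
    (∀ v : P, v ≠ 1 → pat a χ.1 v = p v) ∧ 1 + ∑ v ∈ univ.erase (1 : P), p v * pat a χ.1 v = 4 ∨
      1 + ∑ v ∈ univ.erase (1 : P), p v * pat a χ.1 v = 0 := by
  haveI : Nontrivial P := Finite.one_lt_card_iff_nontrivial.1 (by rw [S.card_P]; norm_num)
  obtain ⟨u, hu⟩ := exists_ne (1 : P)
  obtain ⟨v, w, hv, hw, huv, huw, hvw, he⟩ := exists_others S hu
  have hmem : ∀ x : P, x ≠ 1 → x = u ∨ x = v ∨ x = w := fun x hx => by
    have : x ∈ univ.erase (1 : P) := mem_erase.2 ⟨hx, mem_univ _⟩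
    rw [he] at this
    simpa using this
  have hun : u ∉ ({v, w} : Finset P) := by simp [huv, huw]
  have h1 : p u * p v * p w = 1 := by
    rw [he, prod_insert hun, prod_pair hvw, ← mul_assoc] at hp1; exact hp1
  have h2 : pat a χ.1 u * pat a χ.1 v * pat a χ.1 w = 1 := by
    have := prod_pat S V hpm χ
    rwa [he, prod_insert hun, prod_pair hvw, ← mul_assoc] at this
  have hm : ∀ x : P, x ≠ 1 → p x * pat a χ.1 x = 1 ∨ p x * pat a χ.1 x = -1 := fun x hx => by
    rcases hp x hx with e | e <;> rcases pat_pm S V hpm χ hx with e' | e' <;> simp [e, e']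
  rw [he, sum_insert hun, sum_pair hvw, ← add_assoc]
  rcases three_signs (hm u hu) (hm v hv) (hm w hw) (by linear_combination (pat a χ.1 u * pat a χ.1 v * pat a χ.1 w) * h1 + h2) with
    ⟨e1, e2, e3⟩ | e
  · refine Or.inl ⟨fun x hx => ?_, by rw [e1, e2, e3]; norm_num⟩
    have hx' : p x * pat a χ.1 x = 1 := by rcases hmem x hx with rfl | rfl | rfl <;> assumption
    rcases hp x hx with e | e <;> rw [e] at hx' ⊢ <;> linarith
  · exact Or.inr (by linarith)

/-- A pattern is taken exactly once. -/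
theorem existsUnique_pat (hn : n = 1) (p : P → ℤ) (hp : ∀ v : P, v ≠ 1 → p v = 1 ∨ p v = -1)
    (hp1 : ∏ v ∈ univ.erase (1 : P), p v = 1) :
    ∃! χ : B, ∀ v : P, v ≠ 1 → pat a χ.1 v = p v := by
  set T := fun χ : B => 1 + ∑ v ∈ univ.erase (1 : P), p v * pat a χ.1 v with hTdef
  have hb := bracket S V hpm p hp hp1
  have htot : ∑ χ : B, T χ = 4 := by
    rw [hTdef, sum_add_distrib, sum_comm, sum_eq_zero (s := univ.erase (1 : P)) fun v hv => by
      rw [← mul_sum, sum_pat S V hpm hn (mem_erase.1 hv).1, mul_zero]]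
    rw [sum_const, card_univ, ← Nat.card_eq_fintype_card, V.card_block S hpm]
    norm_num
  have hpos : ∀ χ : B, (∀ v : P, v ≠ 1 → pat a χ.1 v = p v) → T χ = 4 := fun χ h => by
    rw [hTdef]
    show 1 + ∑ v ∈ univ.erase (1 : P), p v * pat a χ.1 v = 4
    rw [sum_congr rfl fun v hv => show p v * pat a χ.1 v = 1 by
      rw [h v (mem_erase.1 hv).1]
      rcases hp v (mem_erase.1 hv).1 with e | e <;> rw [e] <;> norm_num,
      sum_const, card_erase_of_mem (mem_univ (1 : P)), card_univ, ← Nat.card_eq_fintype_card, S.card_P]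
    norm_num
  have hnn : ∀ χ : B, 0 ≤ T χ := fun χ => by
    rcases hb χ with ⟨-, h⟩ | h <;> show (0 : ℤ) ≤ 1 + _ <;> rw [h] <;> norm_num
  obtain ⟨χ, hχ⟩ : ∃ χ : B, ∀ v : P, v ≠ 1 → pat a χ.1 v = p v := by
    by_contra h
    simp only [not_exists] at h
    rw [sum_eq_zero fun χ _ => (hb χ).resolve_left fun h' => h χ h'.1] at htot
    norm_num at htot
  refine ⟨χ, hχ, fun χ' hχ' => ?_⟩
  by_contra hne
  have h2 : ∑ y ∈ ({χ', χ} : Finset B), T y ≤ ∑ y : B, T y :=
    sum_le_sum_of_subset_of_nonneg (subset_univ _) fun y _ _ => hnn y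
  rw [sum_pair hne, hpos χ hχ, hpos χ' hχ', htot] at h2
  norm_num at h2

end Patterns

variable {B' : Set (IrrCharacter H)} {P' : Subgroup H} {c' : Set (IrrCharacter C[P'])}
  [Fintype P'] [Fintype B'] {a' : IrrCharacter H → P' → ℤ}

/-- The rows correspond. -/
theorem exists_match (S : KleinData (M := M) B P c n) (V : KleinVals (M := M) P c n a)
    (hpm : ∀ χ ∈ B, ∀ u : P, u ≠ 1 → a χ u = 1 ∨ a χ u = -1)
    (S' : KleinData (M := M) B' P' c' n) (V' : KleinVals (M := M) P' c' n a')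
    (hpm' : ∀ χ ∈ B', ∀ u : P', u ≠ 1 → a' χ u = 1 ∨ a' χ u = -1) (φ : P' ≃* P) :
    ∃ e : B' ≃ B, ∀ (η : B') (v : P'), v ≠ 1 → pat a (e η).1 (φ v) = pat a' η.1 v := by
  have hφ : ∀ {v : P'}, v ≠ 1 → φ v ≠ 1 := fun {v} hv h => hv (φ.map_eq_one_iff.1 h)
  rcases S.n_cases with hn | hn
  · have hex : ∀ η : B', ∃ χ : B, ∀ v : P, v ≠ 1 → pat a χ.1 v = pat a' η.1 (φ.symm v) := fun η =>
      (existsUnique_pat S V hpm hn (fun v => pat a' η.1 (φ.symm v))
        (fun v hv => pat_pm S' V' hpm' η fun h => hv (φ.symm.map_eq_one_iff.1 h))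
        (by
          rw [← prod_pat S' V' hpm' η]
          refine prod_equiv φ.symm.toEquiv (fun v => ?_) fun v _ => rfl
          simp)).exists
    choose g hg using hex
    have hinj : Function.Injective g := by
      intro η η' h
      refine (existsUnique_pat S' V' hpm' hn (fun v => pat a' η.1 v)
        (fun v hv => pat_pm S' V' hpm' η hv) (prod_pat S' V' hpm' η)).unique (fun v _ => rfl)
        fun v hv => ?_
      have h1 := hg η (φ v) (hφ hv)
      have h2 := hg η' (φ v) (hφ hv)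
      rw [φ.symm_apply_apply] at h1 h2
      rw [← h1, ← h2, h]
    refine ⟨Equiv.ofBijective g ((Fintype.bijective_iff_injective_and_card g).2 ⟨hinj, ?_⟩),
      fun η v hv => ?_⟩
    · rw [← Nat.card_eq_fintype_card, ← Nat.card_eq_fintype_card, V.card_block S hpm,
        V'.card_block S' hpm']
    · have h1 := hg η (φ v) (hφ hv)
      rwa [φ.symm_apply_apply] at h1
  · refine ⟨Fintype.equivOfCardEq (by rw [← Nat.card_eq_fintype_card, ← Nat.card_eq_fintype_card,
      V.card_block S hpm, V'.card_block S' hpm']), fun η v hv => ?_⟩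
    rw [pat_three S V hpm hn _ (hφ hv), pat_three S' V' hpm' hn η hv]

/-- **Perfect isometries between blocks with four-groups as defect groups and equal inertial
index.** -/
theorem exists_perfect_isometry (S : KleinData (M := M) B P c n) (V : KleinVals (M := M) P c n a)
    (hpm : ∀ χ ∈ B, ∀ u : P, u ≠ 1 → a χ u = 1 ∨ a χ u = -1)
    (S' : KleinData (M := M) B' P' c' n) (V' : KleinVals (M := M) P' c' n a')
    (hpm' : ∀ χ ∈ B', ∀ u : P', u ≠ 1 → a' χ u = 1 ∨ a' χ u = -1) (φ : P' ≃* P) :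
    ∃ (I : IrrCharacter H → IrrCharacter G) (ε : IrrCharacter H → ℤ),
      IsPerfectIsometry 2 M B' B I ε := by
  have hM := S.hM
  obtain ⟨e, he⟩ := exists_match S V hpm S' V' hpm' φ
  obtain ⟨x₁⟩ : Nonempty B := by
    obtain ⟨χ, hχ, -⟩ := exists_height_zero hM S.hB
    exact ⟨⟨χ, hχ⟩⟩
  set x₁' := e.symm x₁
  set sg : B' → ℤ := fun η => sgn a (e η).1 * sgn a' η.1 with hsg
  have hsgpm : ∀ η, sg η = 1 ∨ sg η = -1 := fun η => by
    rcases sgn_pm S V hpm (e η) with e1 | e1 <;> rcases sgn_pm S' V' hpm' η with e2 | e2 <;>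
      simp [hsg, e1, e2]
  let I : IrrCharacter H → IrrCharacter G := fun η => if h : η ∈ B' then (e ⟨η, h⟩).1 else x₁.1
  let ε : IrrCharacter H → ℤ := fun η => if h : η ∈ B' then sg ⟨η, h⟩ else 1
  have hIε : ∀ η : B', I η.1 = (e η).1 ∧ ε η.1 = sg η := fun η => ⟨dif_pos η.2, dif_pos η.2⟩
  have hsgR : ∀ η, MemLocalRing M ((sg η : ℤ) : ℂ) := fun η => intCast_mem (localRing M) (sg η)
  have hrow : ∀ (η : B') (v : P'), v ≠ 1 → sg η * a (e η).1 (φ v) = a' η.1 v := by
    intro η v hv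
    have h := he η v hv
    unfold pat at h
    rcases sgn_pm S V hpm (e η) with e1 | e1 <;> rcases sgn_pm S' V' hpm' η with e2 | e2 <;>
      simp only [hsg, e1, e2] at h ⊢ <;> linarith
  have hbr : ∀ w : P, w ≠ 1 → ∀ w' : P', w' ≠ 1 → ∃ k : ℕ,
      ∑ η : B', (sg η : ℂ) * (a (e η).1 w : ℂ) * (a' η.1 w' : ℂ) = (Nat.card P : ℂ) * k := by
    intro w hw w' hw'
    have hv : φ.symm w ≠ 1 := fun h => hw (φ.symm.map_eq_one_iff.1 h)
    refine ⟨if φ.symm w ∈ orb n w' then 1 else 0, ?_⟩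
    rw [sum_congr rfl fun η _ => show (sg η : ℂ) * (a (e η).1 w : ℂ) * (a' η.1 w' : ℂ) =
      ((a' η.1 (φ.symm w) * a' η.1 w' : ℤ) : ℂ) by
        rw [← hrow η (φ.symm w) hv, φ.apply_symm_apply]; push_cast; ring,
      ← Int.cast_sum, V'.sum_orth S' hv hw', S.card_P]
    split_ifs <;> simp
  refine ⟨I, ε, ⟨fun η hη => ?_, ?_, fun χ hχ => ?_⟩, fun η hη => ?_, fun x y => ?_⟩
  · rw [(hIε ⟨η, hη⟩).1]; exact (e _).2
  · intro b hb b' hb' hab
    rw [(hIε ⟨b, hb⟩).1, (hIε ⟨b', hb'⟩).1] at hab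
    exact congrArg Subtype.val (e.injective (Subtype.ext hab))
  · refine ⟨(e.symm ⟨χ, hχ⟩).1, (e.symm ⟨χ, hχ⟩).2, ?_⟩
    rw [(hIε _).1, e.apply_symm_apply]
  · rw [(hIε ⟨η, hη⟩).2]
    exact hsgpm _
  -- the two-variable function
  have hμ : signedBijectionKernel B' I ε x y = ∑ η : B', (sg η : ℂ) *
      ((e η : IrrCharacter G) : G → ℂ) x * ((η : IrrCharacter H) : H → ℂ) y := by
    rw [signedBijectionKernel, finsum_mem_eq_toFinset_sum,
      sum_subtype (B'.toFinset) (p := (· ∈ B')) (fun η => Set.mem_toFinset)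
        (fun η : IrrCharacter H => (ε η : ℂ) * (I η : G → ℂ) x * (η : H → ℂ) y)]
    exact sum_congr rfl fun η _ => by rw [(hIε η).1, (hIε η).2]
  set μ := signedBijectionKernel B' I ε x y
  set co : B → ℂ := fun χ => (sg (e.symm χ) : ℂ) * ((e.symm χ : IrrCharacter H) : H → ℂ) y
  set co' : B' → ℂ := fun η => (sg η : ℂ) * ((e η : IrrCharacter G) : G → ℂ) x
  have hμ1 : μ = ∑ χ : B, co χ * ((χ : IrrCharacter G) : G → ℂ) x := by
    rw [hμ, ← e.sum_comp]
    refine sum_congr rfl fun η _ => ?_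
    simp only [co, e.symm_apply_apply]
    ring
  have hμ2 : μ = ∑ η : B', co' η * ((η : IrrCharacter H) : H → ℂ) y := hμ
  have hkill1 : ¬ 2 ∣ orderOf y → ∀ u : P, u ≠ 1 → ∑ χ : B, co χ * (a χ.1 u : ℂ) = 0 := by
    intro hy u hu
    have hv : φ.symm u ≠ 1 := fun h => hu (φ.symm.map_eq_one_iff.1 h)
    rw [← e.sum_comp, ← V'.sum_reg S' hv hy]
    refine sum_congr rfl fun η _ => ?_
    simp only [co, e.symm_apply_apply]
    rw [← hrow η (φ.symm u) hv, φ.apply_symm_apply]
    push_cast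
    ring
  have hkill2 : ¬ 2 ∣ orderOf x → ∀ v : P', v ≠ 1 → ∑ η : B', co' η * (a' η.1 v : ℂ) = 0 := by
    intro hx v hv
    have hu : φ v ≠ 1 := fun h => hv (φ.map_eq_one_iff.1 h)
    rw [← V.sum_reg S hu hx, ← e.sum_comp]
    refine sum_congr rfl fun η _ => ?_
    simp only [co']
    rw [← hrow η v hv]
    rcases hsgpm η with e1 | e1 <;> rw [e1] <;> push_cast <;> ring
  by_cases hx : 2 ∣ orderOf x <;> by_cases hy : 2 ∣ orderOf y
  · -- both singular
    obtain ⟨u, s, hus, rfl⟩ := exists_pElt 2 x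
    obtain ⟨v, s', hvs, rfl⟩ := exists_pElt 2 y
    have hu : u ≠ 1 := fun h => hus.reg (by rwa [h, one_mul] at hx)
    have hv : v ≠ 1 := fun h => hvs.reg (by rwa [h, one_mul] at hy)
    set F := (blks M u).filter fun f => IsPairOf 2 (idem M B) (Z[u], f)
    set F' := (blks M v).filter fun f => IsPairOf 2 (idem M B') (Z[v], f)
    have hxe : ∀ χ : B, ((χ : IrrCharacter G) : G → ℂ) (u * s) = ∑ f ∈ F, val χ.1 u s f := by
      intro χ
      rw [← wsum_const_one (M := M) hM χ.1 hus, wsum, sum_filter]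
      refine sum_congr rfl fun f hf => ?_
      split_ifs with hp
      · rw [br_one, one_mul, one_mul]
      · rw [br_one, one_mul, one_mul, val_eq_zero_of_not_pair hM S.hB χ.2 hus (mem_blks.1 hf) hp]
    have hye : ∀ η : B', ((η : IrrCharacter H) : H → ℂ) (v * s') = ∑ f ∈ F', val η.1 v s' f := by
      intro η
      rw [← wsum_const_one (M := M) hM η.1 hvs, wsum, sum_filter]
      refine sum_congr rfl fun f hf => ?_
      split_ifs with hp
      · rw [br_one, one_mul, one_mul]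
      · rw [br_one, one_mul, one_mul, val_eq_zero_of_not_pair hM S'.hB η.2 hvs (mem_blks.1 hf) hp]
    have hpv : ∀ f ∈ F, ∃ (w : P) (d : ℤ), w ≠ 1 ∧ ∀ χ : B,
        val χ.1 u s f = (a χ.1 w : ℂ) * ((d : ℂ) * val x₁.1 u s f) := fun f hf =>
      pair_val hM S V hpm x₁ hus hu (mem_filter.1 hf).2
    have hpv' : ∀ f ∈ F', ∃ (w : P') (d : ℤ), w ≠ 1 ∧ ∀ χ : B',
        val χ.1 v s' f = (a' χ.1 w : ℂ) * ((d : ℂ) * val x₁'.1 v s' f) := fun f hf =>
      pair_val hM S' V' hpm' x₁' hvs hv (mem_filter.1 hf).2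
    let d₁ : MonoidAlgebra (Residue M) G → ℤ := fun f => if h : f ∈ F then (hpv f h).choose_spec.choose else 0
    let d₁' : MonoidAlgebra (Residue M) H → ℤ := fun f => if h : f ∈ F' then (hpv' f h).choose_spec.choose else 0
    have hW : ∀ f ∈ F, ∃ w : P, w ≠ 1 ∧ ∀ χ : B,
        val χ.1 u s f = (a χ.1 w : ℂ) * ((d₁ f : ℂ) * val x₁.1 u s f) := fun f hf =>
      ⟨(hpv f hf).choose, by simp only [d₁, dif_pos hf]; exact (hpv f hf).choose_spec.choose_spec⟩
    have hW' : ∀ f ∈ F', ∃ w : P', w ≠ 1 ∧ ∀ χ : B',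
        val χ.1 v s' f = (a' χ.1 w : ℂ) * ((d₁' f : ℂ) * val x₁'.1 v s' f) := fun f hf =>
      ⟨(hpv' f hf).choose, by simp only [d₁', dif_pos hf]; exact (hpv' f hf).choose_spec.choose_spec⟩
    have hterm : ∀ f ∈ F, ∀ f' ∈ F', ∃ k : ℕ,
        ∑ η : B', (sg η : ℂ) * val (e η).1 u s f * val η.1 v s' f' =
          (Nat.card P : ℂ) * k * ((d₁ f : ℂ) * d₁' f' * (val x₁.1 u s f * val x₁'.1 v s' f')) := by
      intro f hf f' hf'
      obtain ⟨w, hw, hwv⟩ := hW f hf
      obtain ⟨w', hw', hwv'⟩ := hW' f' hf'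
      obtain ⟨k, hk⟩ := hbr w hw w' hw'
      refine ⟨k, ?_⟩
      rw [← hk, sum_mul]
      refine sum_congr rfl fun η _ => ?_
      rw [hwv (e η), hwv' η]
      ring
    choose! k hk using hterm
    have hμ3 : μ = ∑ f ∈ F, ∑ f' ∈ F',
        (Nat.card P : ℂ) * (k f f' : ℂ) * ((d₁ f : ℂ) * d₁' f' * (val x₁.1 u s f * val x₁'.1 v s' f')) := by
      rw [sum_congr rfl fun f hf => sum_congr rfl fun f' hf' => (hk f hf f' hf').symm, hμ]
      simp only [hxe, hye, mul_sum, sum_mul]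
      rw [sum_comm]
      rw [sum_congr rfl fun f' _ => sum_comm]
      rw [sum_comm]
    refine ⟨?_, ?_, Or.inl ⟨fun h => absurd hx h, fun h => absurd hy h⟩⟩
    · rw [hμ3, sum_div]
      refine memLocalRing_sum fun f hf => ?_
      rw [sum_div]
      refine memLocalRing_sum fun f' hf' => ?_
      have h1 := (scaled_val_dvd hM S x₁.1 hus (mem_filter.1 hf).2).1
      have h2 := (scaled_val_dvd hM S' x₁'.1 hvs (mem_filter.1 hf').2).2
      convert memLocalRing_mul (memLocalRing_mul (natCast_mem_localRing (M := M) (k f f'))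
        (memLocalRing_mul (intCast_mem (localRing M) (d₁ f)) (intCast_mem (localRing M) (d₁' f'))))
        (memLocalRing_mul h1 h2) using 1
      ring
    · rw [hμ3, sum_div]
      refine memLocalRing_sum fun f hf => ?_
      rw [sum_div]
      refine memLocalRing_sum fun f' hf' => ?_
      have h1 := (scaled_val_dvd hM S' x₁'.1 hvs (mem_filter.1 hf').2).1
      have h2 := (scaled_val_dvd hM S x₁.1 hus (mem_filter.1 hf).2).2
      rw [Nat.card_congr φ.toEquiv] at h1
      convert memLocalRing_mul (memLocalRing_mul (natCast_mem_localRing (M := M) (k f f'))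
        (memLocalRing_mul (intCast_mem (localRing M) (d₁ f)) (intCast_mem (localRing M) (d₁' f'))))
        (memLocalRing_mul h1 h2) using 1
      ring
  · -- first singular
    have h0 : μ = 0 := by rw [hμ1]; exact V.vanish S co (hkill1 hy) hx
    exact ⟨by rw [h0, zero_div]; exact memLocalRing_zero, by rw [h0, zero_div]; exact memLocalRing_zero,
      Or.inr h0⟩
  · -- second singular
    have h0 : μ = 0 := by rw [hμ2]; exact V'.vanish S' co' (hkill2 hx) hy
    exact ⟨by rw [h0, zero_div]; exact memLocalRing_zero, by rw [h0, zero_div]; exact memLocalRing_zero,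
      Or.inr h0⟩
  · -- both regular
    refine ⟨?_, ?_, Or.inl ⟨fun _ => hy, fun _ => hx⟩⟩
    · rw [hμ1]
      exact div_centralizer_of_killed hM S V co
        (fun χ => memLocalRing_mul (hsgR _) (irr_mem _ y)) (hkill1 hy) hx
    · rw [hμ2]
      exact div_centralizer_of_killed hM S' V' co'
        (fun η => memLocalRing_mul (hsgR _) (irr_mem _ x)) (hkill2 hx) hy

end CfsgLib.KleinDefect
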