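import Cfsg.Agent.BlocksB.KleinDefect.Values
import Cfsg.Agent.BlocksB.Cyclic.Relations

/-!
# A block with a four-group as defect group: the relations
-/

set_option autoImplicit false
set_option linter.style.haveILetI false
set_option linter.unusedSectionVars false

namespace CfsgLib.KleinDefect

open Cfsg Finset CfsgLib.Block CfsgLib.Block.Chr CfsgLib.BrauerPairs CfsgLib.BlockStar
  CfsgLib.BlockB CfsgLib.Cyclic
open scoped ComplexConjugate
open scoped Classical

universe u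

variable {M : Ideal AlgInt} [M.IsPrime] [Fact (Nat.Prime 2)] [CharP (Residue M) 2]
  {G : Type u} [Group G] [Fintype G]

local notation "𝕜" => Residue M
local notation "Z[" x "]" => Subgroup.zpowers x
local notation "C[" Q "]" => Subgroup.centralizer (SetLike.coe Q)
local notation "N[" Q "]" => Subgroup.normalizer (SetLike.coe Q)

variable {B : Set (IrrCharacter G)} {P : Subgroup G} {c : Set (IrrCharacter C[P])} {n : ℕ}

/-- Integers giving the values on the nontrivial subsections. -/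
structure KleinVals (P : Subgroup G) [Fintype P] (c : Set (IrrCharacter C[P])) (n : ℕ)
    (a : IrrCharacter G → P → ℤ) : Prop where
  contrib : ∀ χ ψ : IrrCharacter G, ∀ u : P, u ≠ 1 →
    contribR 2 χ ψ (u : G) (subBlk 2 P (idemIn M C[P] c) (u : G)) =
      (a χ u : ℂ) * conj (a ψ u : ℂ) * (Nat.card P : ℂ)⁻¹
  const : n = 3 → ∀ (χ : IrrCharacter G) (u v : P), u ≠ 1 → v ≠ 1 → a χ u = a χ v

theorem regPart_self_pos (χ : IrrCharacter G) :
    ∃ r : ℝ, 0 < r ∧ classInner (regPart 2 (χ : G → ℂ)) (regPart 2 (χ : G → ℂ)) = (r : ℂ) := by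
  refine ⟨_, ?_, classInner_self_real _⟩
  refine mul_pos (inv_pos.2 (Nat.cast_pos.2 Nat.card_pos)) ?_
  refine sum_pos' (fun g _ => sq_nonneg _) ⟨1, mem_univ _, ?_⟩
  rw [regPart_of_not_dvd (by rw [orderOf_one]; norm_num)]
  exact pow_pos (norm_pos_iff.2 (irr_one_ne_zero χ)) 2

namespace KleinData

variable [Fintype P] (S : KleinData (M := M) B P c n)
include S

theorem contribR_const (hn : n = 3) (χ ψ : IrrCharacter G) {u v : P} (hu : u ≠ 1) (hv : v ≠ 1) :
    contribR 2 χ ψ (u : G) (subBlk 2 P (idemIn M C[P] c) (u : G)) =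
      contribR 2 χ ψ (v : G) (subBlk 2 P (idemIn M C[P] c) (v : G)) := by
  obtain ⟨g, hg, hguv⟩ := S.exists_conj hn u.2 (fun h => hu (Subtype.ext h)) v.2
    (fun h => hv (Subtype.ext h))
  rw [← hguv, ← S.subBlk_conj hg u.2,
    contribR_conj S.hM χ ψ (mem_pSet_of_mem S.pair u.2) (PLE.isPair (subBlk_ple S.pair u.2) S.pair).2]

theorem contribR_ne_zero' {χ ξ : IrrCharacter G} (hχ : χ ∈ B) (hξ : ξ ∈ B)
    (h0 : blockHeight 2 B (ξ : G → ℂ) = 0) (u : P) :
    contribR 2 χ ξ (u : G) (subBlk 2 P (idemIn M C[P] c) (u : G)) ≠ 0 := by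
  have hM := S.hM
  have hP := S.pair
  have hab := S.hab
  haveI : Fintype C[Z[(u : G)]] := Fintype.ofFinite _
  obtain ⟨d, hd⟩ := Inertial.exists_inducedIn hM hP.1 S.hc.1 hab (Subgroup.zpowers_le.2 u.2)
  have hde : idemIn M C[Z[(u : G)]] d = subBlk 2 P (idemIn M C[P] c) (u : G) :=
    ple_unique hP (Inertial.ple_of_inducedIn hM hP hab (Subgroup.zpowers_le.2 u.2) hd)
      (subBlk_ple hP u.2)
  obtain ⟨e', -, hP', hmax'⟩ := Inertial.local_maxPair hM S.hB hP S.maxPair hab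
    (Subgroup.zpowers_le.2 u.2) hd
  have hPQ : P ≤ C[Z[(u : G)]] := fun y hy => mem_cz.2 (hab y hy _ u.2)
  have hcard := card_defectGroup hM hd.2.1
    (isDefectGroup_of_isDef hM hd.2.1 (hmax'.isDef (isBlk_idem hM hd.2.1)))
  rw [Nat.card_congr (Subgroup.subgroupOfEquivOfLe hPQ).toEquiv,
    card_defectGroup hM S.hB S.hPD] at hcard
  have hbd : blockDefect 2 d = blockDefect 2 B :=
    (Nat.pow_right_injective hM.1.two_le hcard).symm
  have hpair : IsPairOf 2 (idem M B) (Z[(u : G)], idemIn M C[Z[(u : G)]] d) := by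
    rw [hde]
    exact (isPairOf_iff_of_ple (isBlk_idem hM S.hB) (subBlk_ple hP u.2) hP).2 S.maxPair.1
  have hind := isInducedBlock_of_isBrauerPairOf hM (zpowers_le_centralizer_zpowers _)
    ((isBrauerPairOf_iff hM).2 ⟨⟨hpair.1.1, hd.2.1⟩, S.hB, hpair⟩)
  obtain ⟨N, hN⟩ := mem_pSet.1 (mem_pSet_of_mem hP u.2)
  obtain ⟨k, -, hk⟩ := (Nat.dvd_prime_pow hM.1).1 (orderOf_dvd_of_pow_eq_one hN)
  intro h
  refine contrib_ne_zero hM (centralizer_zpowers_eq _) hk hind hbd hχ hξ h0 ?_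
  have h2 := contribR_idemIn hM χ ξ (mem_pSet_of_mem hP u.2) hd.2.1
  rw [hde, h] at h2
  convert h2.symm

theorem value_bound {χ : IrrCharacter G} (hχ : χ ∈ B) {u : P} (hu : u ≠ 1) {a : ℤ}
    (ha : contribR 2 χ χ (u : G) (subBlk 2 P (idemIn M C[P] c) (u : G)) =
      (a : ℂ) * (a : ℂ) * (4 : ℂ)⁻¹) : a * a < 4 := by
  obtain ⟨r, hr0, hr⟩ := regPart_self_pos χ
  choose v hv using fun w : {w : P // w ≠ 1} => S.exists_value w.2
  have h := S.inner_decomp (χ := χ) (ψ := χ) (Or.inl hχ)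
  rw [if_pos rfl, hr, sum_subtype (univ.filter fun w : P => w ≠ 1) (p := fun w : P => w ≠ 1)
    (by simp) (fun w : P => contribR 2 χ χ (w : G) (subBlk 2 P (idemIn M C[P] c) (w : G))),
    sum_congr rfl fun w _ => hv w χ χ] at h
  have h' : (1 : ℝ) = r + (n : ℝ)⁻¹ *
      ∑ w : {w : P // w ≠ 1}, (v w χ : ℝ) * (v w χ : ℝ) * (4 : ℝ)⁻¹ := by
    apply Complex.ofReal_injective
    push_cast
    exact h
  have hterm : ∀ w : {w : P // w ≠ 1}, n = 3 ∨ w = ⟨u, hu⟩ →
      ((v w χ : ℝ)) * (v w χ : ℝ) = (a : ℝ) * a := by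
    intro w hw
    have h1 : contribR 2 χ χ ((w : P) : G) (subBlk 2 P (idemIn M C[P] c) ((w : P) : G)) =
        (a : ℂ) * (a : ℂ) * (4 : ℂ)⁻¹ := by
      rcases hw with hn | hw
      · rw [S.contribR_const hn χ χ w.2 hu, ha]
      · rw [hw, ha]
    rw [hv w χ χ] at h1
    have h2 := mul_right_cancel₀ (inv_ne_zero (by norm_num : (4 : ℂ) ≠ 0)) h1
    exact_mod_cast h2
  have hsum : (n : ℝ) * ((a : ℝ) * a * (4 : ℝ)⁻¹) ≤
      ∑ w : {w : P // w ≠ 1}, (v w χ : ℝ) * (v w χ : ℝ) * (4 : ℝ)⁻¹ := by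
    rcases S.n_cases with hn | hn
    · rw [hn, Nat.cast_one, one_mul, ← hterm ⟨u, hu⟩ (Or.inr rfl)]
      exact single_le_sum (f := fun w => (v w χ : ℝ) * (v w χ : ℝ) * (4 : ℝ)⁻¹)
        (fun w _ => mul_nonneg (mul_self_nonneg _) (by norm_num)) (mem_univ _)
    · rw [sum_congr rfl fun w _ => show (v w χ : ℝ) * (v w χ : ℝ) * (4 : ℝ)⁻¹ =
        (a : ℝ) * a * (4 : ℝ)⁻¹ by rw [hterm w (Or.inl hn)], sum_const, card_univ, nsmul_eq_mul]
      rw [show Fintype.card {w : P // w ≠ 1} = n by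
        rw [hn, Fintype.card_subtype_compl, Fintype.card_subtype_eq, ← Nat.card_eq_fintype_card,
          S.card_P]]
  have hn0 : (0 : ℝ) < n := Nat.cast_pos.2 S.n_pos
  have h3 := mul_le_mul_of_nonneg_left hsum (inv_nonneg.2 hn0.le)
  rw [inv_mul_cancel_left₀ hn0.ne'] at h3
  have h4 : (a : ℝ) * a < 4 := by nlinarith
  exact_mod_cast h4

/-- **The values exist and are signs on the block.** -/
theorem exists_kleinVals :
    ∃ a, KleinVals (M := M) P c n a ∧ ∀ χ ∈ B, ∀ u : P, u ≠ 1 → a χ u = 1 ∨ a χ u = -1 := by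
  obtain ⟨ξ, hξ, h0⟩ := exists_height_zero S.hM S.hB
  choose v hv using fun (w : P) (hw : w ≠ 1) => S.exists_value hw
  let a : IrrCharacter G → P → ℤ := fun χ w => if h : w = 1 then 0 else v w h χ * v w h ξ
  have hpm : ∀ χ ∈ B, ∀ (w : P) (hw : w ≠ 1), v w hw χ = 1 ∨ v w hw χ = -1 := by
    intro χ hχ w hw
    have h1 := S.value_bound hχ hw (hv w hw χ χ)
    have h2 : v w hw χ ≠ 0 := fun h => S.contribR_ne_zero' hχ hξ h0 w
      (by rw [hv w hw χ ξ, h, Int.cast_zero, zero_mul, zero_mul])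
    have h3 : -2 < v w hw χ := by nlinarith
    have h4 : v w hw χ < 2 := by nlinarith
    omega
  refine ⟨a, ⟨fun χ ψ w hw => ?_, fun hn χ w w' hw hw' => ?_⟩, fun χ hχ w hw => ?_⟩
  · rw [hv w hw χ ψ, map_intCast, S.card_P]
    simp only [a, dif_neg hw, Int.cast_mul]
    rcases hpm ξ hξ w hw with e | e <;> rw [e] <;> norm_num
  · have h1 := S.contribR_const hn χ ξ hw hw'
    rw [hv w hw, hv w' hw'] at h1
    have h2 := mul_right_cancel₀ (inv_ne_zero (by norm_num : (4 : ℂ) ≠ 0)) h1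
    simp only [a, dif_neg hw, dif_neg hw']
    exact_mod_cast h2
  · simp only [a, dif_neg hw]
    rcases hpm χ hχ w hw with e | e <;> rcases hpm ξ hξ w hw with e' | e' <;> simp [e, e']

end KleinData

/-- The orbit of an element. -/
noncomputable def orb {P : Subgroup G} [Fintype P] (n : ℕ) (v : P) : Finset P :=
  univ.filter fun u : P => u ≠ 1 ∧ (n = 3 ∨ u = v)

namespace KleinVals

variable [Fintype P] {a : IrrCharacter G → P → ℤ}
  (S : KleinData (M := M) B P c n) (V : KleinVals (M := M) P c n a) [Fintype B]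
include S V

theorem a_orb (χ : IrrCharacter G) {u v : P} (hv : v ≠ 1) (hu : u ∈ orb n v) : a χ u = a χ v := by
  obtain ⟨-, hu1, h | h⟩ := mem_filter.1 hu
  · exact V.const h χ u v hu1 hv
  · rw [h]

theorem card_orb {v : P} (hv : v ≠ 1) : (orb n v).card = n := by
  rcases S.n_cases with hn | hn
  · rw [hn, card_eq_one]
    refine ⟨v, ext fun u => ?_⟩
    simp only [orb, mem_filter, mem_univ, true_and, mem_singleton]
    exact ⟨fun h => h.2.resolve_left (by norm_num), fun h => ⟨h ▸ hv, Or.inr h⟩⟩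
  · rw [hn, orb, filter_congr (q := fun u : P => u ≠ 1) fun u _ => and_iff_left (Or.inl rfl),
      filter_ne' univ (1 : P), card_erase_of_mem (mem_univ _), card_univ, ← Nat.card_eq_fintype_card,
      S.card_P]

/-- The squares of the values at a nontrivial element add up to the order of the defect group. -/
theorem sum_norm {u : P} (hu : u ≠ 1) :
    ∑ φ : B, ‖(a φ.1 u : ℂ)‖ ^ 2 = (Nat.card P : ℝ) := by
  letI := irrFintype (G := G)
  have hM := S.hM
  have hP := S.pair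
  haveI : Fintype C[Z[(u : G)]] := Fintype.ofFinite _
  obtain ⟨d, hd, hde⟩ := exists_idemIn_eq hM
    (PLE.isPair (subBlk_ple hP u.2) hP).2
  have hpair : IsPairOf 2 (idem M B) (Z[(u : G)], idemIn M C[Z[(u : G)]] d) := by
    rw [hde]
    exact (isPairOf_iff_of_ple (isBlk_idem hM S.hB) (subBlk_ple hP u.2) hP).2 S.maxPair.1
  have hind := isInducedBlock_of_isBrauerPairOf hM (zpowers_le_centralizer_zpowers _)
    ((isBrauerPairOf_iff hM).2 ⟨⟨hpair.1.1, hd⟩, S.hB, hpair⟩)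
  obtain ⟨N, hN⟩ := mem_pSet.1 (mem_pSet_of_mem hP u.2)
  obtain ⟨k, -, hk⟩ := (Nat.dvd_prime_pow hM.1).1 (orderOf_dvd_of_pow_eq_one hN)
  have hc : ∀ χ ψ : IrrCharacter G, CfsgLib.BlockB.contrib 2 d (u : G) χ ψ =
      (a χ u : ℂ) * conj ((a ψ u : ℂ)) * (Nat.card P : ℂ)⁻¹ := fun χ ψ => by
    have h := contribR_idemIn hM χ ψ (mem_pSet_of_mem hP u.2) hd
    rw [hde, V.contrib χ ψ u hu] at h
    convert h.symm
  obtain ⟨χ, hχ, h0⟩ := exists_height_zero hM S.hB
  have hne := contribR_ne_zero hM S.hB hχ h0 S.maxPair u.2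
  rw [V.contrib χ χ u hu] at hne
  obtain ⟨hne', hP0⟩ := mul_ne_zero_iff.1 hne
  have h := contrib_mul hM (centralizer_zpowers_eq _) hk hind χ χ
  simp only [hc] at h
  rw [sum_subtype (univ.filter (· ∈ B)) (p := (· ∈ B)) (by simp)
    (fun ψ : IrrCharacter G => (a χ u : ℂ) * conj ((a ψ u : ℂ)) * (Nat.card P : ℂ)⁻¹ *
      ((a ψ u : ℂ) * conj ((a χ u : ℂ)) * (Nat.card P : ℂ)⁻¹))] at h
  have h2 : ((a χ u : ℂ) * conj ((a χ u : ℂ)) * (Nat.card P : ℂ)⁻¹) *
      ((∑ φ : B, (‖(a φ.1 u : ℂ)‖ : ℂ) ^ 2) * (Nat.card P : ℂ)⁻¹) =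
      ((a χ u : ℂ) * conj ((a χ u : ℂ)) * (Nat.card P : ℂ)⁻¹) * 1 := by
    rw [mul_one]
    refine Eq.trans ?_ h
    rw [sum_mul, mul_sum]
    exact sum_congr rfl fun φ _ => by rw [← Complex.mul_conj']; ring
  have h3 := mul_left_cancel₀ hne h2
  rw [mul_inv_eq_one₀ (Nat.cast_ne_zero.2 Nat.card_pos.ne')] at h3
  exact_mod_cast h3

/-- The identity on the members of the block. -/
theorem decomp (χ ψ : B) :
    (if χ = ψ then 1 else 0 : ℂ) =
      classInner (regPart 2 ((χ : IrrCharacter G) : G → ℂ))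
        (regPart 2 ((ψ : IrrCharacter G) : G → ℂ)) +
      ((n : ℂ) * Nat.card P)⁻¹ * ∑ u ∈ univ.filter (fun u : P => u ≠ 1),
        (a χ.1 u : ℂ) * conj ((a ψ.1 u : ℂ)) := by
  have h := S.inner_decomp (χ := χ.1) (ψ := ψ.1) (Or.inl χ.2)
  simp only [← Subtype.ext_iff] at h
  rw [h, mul_inv, mul_assoc]
  congr 2
  rw [mul_sum]
  exact sum_congr rfl fun u hu => by rw [V.contrib _ _ u (mem_filter.1 hu).2]; ring

/-- The norm of a combination of the members. -/
theorem norm_split (co : B → ℂ) :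
    (Nat.card G : ℝ)⁻¹ * ∑ g : G,
        ‖regPart 2 (fun g => ∑ χ : B, co χ * ((χ : IrrCharacter G) : G → ℂ) g) g‖ ^ 2 +
      ((n : ℝ) * Nat.card P)⁻¹ * ∑ u ∈ univ.filter (fun u : P => u ≠ 1),
        ‖∑ χ : B, co χ * (a χ.1 u : ℂ)‖ ^ 2 =
      ∑ χ : B, ‖co χ‖ ^ 2 := by
  suffices h : ((((Nat.card G : ℝ)⁻¹ * ∑ g : G,
        ‖regPart 2 (fun g => ∑ χ : B, co χ * ((χ : IrrCharacter G) : G → ℂ) g) g‖ ^ 2 : ℝ)) : ℂ) +
      ((n : ℂ) * Nat.card P)⁻¹ * ∑ u ∈ univ.filter (fun u : P => u ≠ 1),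
        ((∑ χ : B, co χ * (a χ.1 u : ℂ)) * conj (∑ χ : B, co χ * (a χ.1 u : ℂ))) =
      ∑ χ : B, co χ * conj (co χ) by
    simp only [Complex.mul_conj'] at h
    apply Complex.ofReal_injective
    push_cast at h ⊢
    exact h
  rw [← classInner_self_real]
  have hF : regPart 2 (fun g => ∑ χ : B, co χ * ((χ : IrrCharacter G) : G → ℂ) g) =
      ∑ χ : B, co χ • regPart 2 ((χ : IrrCharacter G) : G → ℂ) := funext fun g => by
    rw [Finset.sum_apply]
    by_cases hg : 2 ∣ orderOf g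
    · rw [regPart_of_dvd hg]
      exact (sum_eq_zero fun χ _ => by rw [Pi.smul_apply, regPart_of_dvd hg, smul_zero]).symm
    · rw [regPart_of_not_dvd hg]
      exact sum_congr rfl fun χ _ => by rw [Pi.smul_apply, regPart_of_not_dvd hg, smul_eq_mul]
  have hsq : ∀ u : P, (∑ χ : B, co χ * (a χ.1 u : ℂ)) * conj (∑ χ : B, co χ * (a χ.1 u : ℂ)) =
      ∑ χ : B, ∑ ψ : B, co χ * conj (co ψ) * ((a χ.1 u : ℂ) * conj ((a ψ.1 u : ℂ))) := fun u => by
    rw [map_sum, sum_mul_sum]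
    exact sum_congr rfl fun χ _ => sum_congr rfl fun ψ _ => by rw [map_mul]; ring
  simp only [hsq]
  rw [hF, CfsgLib.Char.classInner_sum_left]
  simp only [CfsgLib.Char.classInner_sum_right, CfsgLib.Char.classInner_smul_left,
    CfsgLib.Char.classInner_smul_right, map_sum, map_mul, mul_sum, sum_mul]
  rw [sum_comm (s := univ.filter fun u : P => u ≠ 1), ← sum_add_distrib]
  refine sum_congr rfl fun χ _ => ?_
  rw [sum_comm (s := univ.filter fun u : P => u ≠ 1)]
  have : co χ * conj (co χ) = ∑ ψ : B, co χ * conj (co ψ) * (if χ = ψ then 1 else 0) := by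
    simp
  rw [this]
  simp only [decomp S V, mul_add, mul_sum, ← sum_add_distrib]
  rw [sum_add_distrib, sum_add_distrib]
  congr 1
  · exact sum_congr rfl fun ψ _ => by ring
  · exact sum_congr rfl fun ψ _ => sum_congr rfl fun u _ => by ring

/-- **The values are orthogonal, also to the regular parts.** -/
theorem orth_aux {v : P} (hv : v ≠ 1) :
    (∀ u : P, u ≠ 1 → u ∉ orb n v → ∑ χ : B, (a χ.1 u : ℂ) * conj (a χ.1 v : ℂ) = 0) ∧
    ∀ g : G, ¬ 2 ∣ orderOf g →
      ∑ χ : B, conj (a χ.1 v : ℂ) * ((χ : IrrCharacter G) : G → ℂ) g = 0 := by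
  set co : B → ℂ := fun χ => conj (a χ.1 v : ℂ) with hco
  have h := norm_split S V co
  have hco2 : ∑ χ : B, ‖co χ‖ ^ 2 = (Nat.card P : ℝ) := by
    rw [← sum_norm S V hv]
    exact sum_congr rfl fun χ _ => by rw [hco, Complex.norm_conj]
  set T := orb n v with hT
  have hTsub : T ⊆ univ.filter (fun u : P => u ≠ 1) := fun u hu =>
    mem_filter.2 ⟨mem_univ _, (mem_filter.1 hu).2.1⟩
  have hTcard : T.card = n := card_orb S V hv
  have hTval : ∀ u ∈ T, ‖∑ χ : B, co χ * (a χ.1 u : ℂ)‖ ^ 2 = (Nat.card P : ℝ) ^ 2 := by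
    intro u hu
    have h1 : ∑ χ : B, co χ * (a χ.1 u : ℂ) = ((Nat.card P : ℝ) : ℂ) := by
      rw [← sum_norm S V hv, Complex.ofReal_sum]
      refine sum_congr rfl fun χ _ => ?_
      rw [a_orb S V χ.1 hv hu, hco, Complex.ofReal_pow, ← Complex.mul_conj', mul_comm]
    rw [h1, Complex.norm_real, Real.norm_eq_abs, abs_of_nonneg (Nat.cast_nonneg _)]
  rw [hco2, ← sum_sdiff hTsub, sum_congr (s₁ := T) rfl hTval, sum_const, hTcard, nsmul_eq_mul,
    mul_add, ← add_assoc] at h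
  have hn0 : (n : ℝ) ≠ 0 := Nat.cast_ne_zero.2 S.n_pos.ne'
  have hP0 : (Nat.card P : ℝ) ≠ 0 := Nat.cast_ne_zero.2 Nat.card_pos.ne'
  rw [show ((n : ℝ) * Nat.card P)⁻¹ * ((n : ℝ) * (Nat.card P : ℝ) ^ 2) = (Nat.card P : ℝ) by
    field_simp] at h
  have h0 := add_eq_right.1 h
  obtain ⟨hA, hB'⟩ := (add_eq_zero_iff_of_nonneg
    (mul_nonneg (inv_nonneg.2 (Nat.cast_nonneg _)) (sum_nonneg fun _ _ => sq_nonneg _))
    (mul_nonneg (inv_nonneg.2 (mul_nonneg (Nat.cast_nonneg _) (Nat.cast_nonneg _)))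
      (sum_nonneg fun _ _ => sq_nonneg _))).1 h0
  refine ⟨fun u hu huT => ?_, fun g hg => ?_⟩
  · have h1 := (sum_eq_zero_iff_of_nonneg fun _ _ => sq_nonneg _).1
      ((mul_eq_zero.1 hB').resolve_left (inv_ne_zero (mul_ne_zero hn0 hP0))) u
      (mem_sdiff.2 ⟨mem_filter.2 ⟨mem_univ _, hu⟩, huT⟩)
    rw [← norm_eq_zero.1 ((pow_eq_zero_iff two_ne_zero).1 h1)]
    exact sum_congr rfl fun χ _ => mul_comm _ _
  · have h1 := (sum_eq_zero_iff_of_nonneg fun _ _ => sq_nonneg _).1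
      ((mul_eq_zero.1 hA).resolve_left (inv_ne_zero (Nat.cast_ne_zero.2 Nat.card_pos.ne'))) g
      (mem_univ g)
    have h2 := norm_eq_zero.1 ((pow_eq_zero_iff two_ne_zero).1 h1)
    rwa [regPart_of_not_dvd hg] at h2

theorem sum_orth {u v : P} (hu : u ≠ 1) (hv : v ≠ 1) :
    ∑ χ : B, a χ.1 u * a χ.1 v = if u ∈ orb n v then 4 else 0 := by
  apply Int.cast_injective (α := ℂ)
  rw [apply_ite (Int.cast : ℤ → ℂ)]
  push_cast
  split_ifs with h
  · rw [show (4 : ℂ) = ((Nat.card P : ℝ) : ℂ) by rw [S.card_P]; norm_num, ← sum_norm S V hv,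
      Complex.ofReal_sum]
    exact sum_congr rfl fun χ _ => by
      rw [a_orb S V χ.1 hv h, Complex.ofReal_pow, ← Complex.mul_conj', map_intCast]
  · rw [← (orth_aux S V hv).1 u hu h]
    exact sum_congr rfl fun χ _ => by rw [map_intCast]

/-- The values are orthogonal to the regular parts. -/
theorem sum_reg {v : P} (hv : v ≠ 1) {g : G} (hg : ¬ 2 ∣ orderOf g) :
    ∑ χ : B, (a χ.1 v : ℂ) * ((χ : IrrCharacter G) : G → ℂ) g = 0 := by
  have h := (orth_aux S V hv).2 g hg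
  simpa only [map_intCast] using h

/-- Combinations killed by all values vanish on the singular elements. -/
theorem vanish (co : B → ℂ) (h : ∀ u : P, u ≠ 1 → ∑ χ : B, co χ * (a χ.1 u : ℂ) = 0)
    {g : G} (hg : 2 ∣ orderOf g) :
    ∑ χ : B, co χ * ((χ : IrrCharacter G) : G → ℂ) g = 0 := by
  letI := irrFintype (G := G)
  set F : G → ℂ := fun g => ∑ χ : B, co χ * ((χ : IrrCharacter G) : G → ℂ) g with hF
  have h1 := norm_split S V co
  rw [sum_eq_zero (s := univ.filter fun u : P => u ≠ 1) fun u hu => by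
    rw [h u (mem_filter.1 hu).2, norm_zero, zero_pow two_ne_zero], mul_zero, add_zero] at h1
  have h2 : classInner F F = ((∑ χ : B, ‖co χ‖ ^ 2 : ℝ) : ℂ) := by
    have hFc : F = comb B co := funext fun g => (comb_apply co g).symm
    rw [Complex.ofReal_sum]
    conv_lhs => arg 2; rw [show F = ∑ χ : B, co χ • ((χ : IrrCharacter G) : G → ℂ) from funext fun g => by
      rw [Finset.sum_apply]; rfl]
    rw [CfsgLib.Char.classInner_sum_right]
    refine sum_congr rfl fun χ _ => ?_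
    rw [CfsgLib.Char.classInner_smul_right, hFc, classInner_comb, Complex.ofReal_pow,
      ← Complex.mul_conj', mul_comm]
  rw [classInner_self_real] at h2
  have h3 := Complex.ofReal_injective h2
  rw [← h1] at h3
  have h4 := mul_left_cancel₀ (inv_ne_zero (Nat.cast_ne_zero.2 Nat.card_pos.ne')) h3
  have h5 : ∑ x : G, (‖F x‖ ^ 2 - ‖regPart 2 F x‖ ^ 2) = 0 := by
    rw [sum_sub_distrib, h4, sub_self]
  have h6 := (sum_eq_zero_iff_of_nonneg fun x _ => by
    by_cases hx : 2 ∣ orderOf x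
    · rw [regPart_of_dvd hx, norm_zero, zero_pow two_ne_zero, sub_zero]; exact sq_nonneg _
    · rw [regPart_of_not_dvd hx, sub_self]).1 h5 g (mem_univ g)
  rw [regPart_of_dvd hg, norm_zero, zero_pow two_ne_zero, sub_zero] at h6
  exact norm_eq_zero.1 ((pow_eq_zero_iff two_ne_zero).1 h6)

/-- **The number of members is the rank plus the number of orbits.** -/
theorem card_relation :
    n * Nat.card B + 1 = n * blockRank 2 B + Nat.card P := by
  have hM := S.hM
  have h1 : ∀ χ : B, classInner (regPart 2 ((χ : IrrCharacter G) : G → ℂ))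
      (regPart 2 ((χ : IrrCharacter G) : G → ℂ)) = regMat 2 B χ χ := fun χ => by
    rw [regMat, CfsgLib.Char.classInner_def, CfsgLib.Char.classInner_def]
    refine congrArg _ (sum_congr rfl fun g _ => ?_)
    by_cases hg : 2 ∣ orderOf g
    · rw [regPart_of_dvd hg, zero_mul, zero_mul]
    · rw [regPart_of_not_dvd hg]
  have hs := sum_congr (s₁ := (univ : Finset B)) rfl fun χ _ => decomp S V χ χ
  simp only [if_true, sum_const, card_univ, nsmul_eq_mul, mul_one, h1, sum_add_distrib,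
    ← blockRank_eq_trace hM S.hB, ← mul_sum] at hs
  rw [sum_comm] at hs
  rw [sum_congr rfl fun u hu => show (∑ χ : B, (a χ.1 u : ℂ) * conj ((a χ.1 u : ℂ))) =
      ((Nat.card P : ℝ) : ℂ) from by
    rw [← sum_norm S V (mem_filter.1 hu).2, Complex.ofReal_sum]
    exact sum_congr rfl fun χ _ => by rw [Complex.ofReal_pow, Complex.mul_conj'],
    sum_const, nsmul_eq_mul, filter_ne' univ (1 : P), card_erase_of_mem (mem_univ _), card_univ,
    ← Nat.card_eq_fintype_card (α := P), ← Nat.card_eq_fintype_card (α := B),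
    Complex.ofReal_natCast, Nat.cast_sub Nat.card_pos, Nat.cast_one] at hs
  have hn0 : (n : ℂ) ≠ 0 := Nat.cast_ne_zero.2 S.n_pos.ne'
  have hP0 : (Nat.card P : ℂ) ≠ 0 := Nat.cast_ne_zero.2 Nat.card_pos.ne'
  field_simp at hs
  have : ((n * Nat.card B + 1 : ℕ) : ℂ) = ((n * blockRank 2 B + Nat.card P : ℕ) : ℂ) := by
    push_cast
    linear_combination hs
  exact_mod_cast this

/-- **The number of members.** -/
theorem card_block (hpm : ∀ χ ∈ B, ∀ u : P, u ≠ 1 → a χ u = 1 ∨ a χ u = -1) : Nat.card B = 4 := by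
  haveI : Nontrivial P := Finite.one_lt_card_iff_nontrivial.1 (by rw [S.card_P]; norm_num)
  obtain ⟨u, hu⟩ := exists_ne (1 : P)
  have h := sum_norm S V hu
  rw [sum_congr rfl fun χ _ => show ‖(a χ.1 u : ℂ)‖ ^ 2 = (1 : ℝ) by
    rcases hpm χ.1 χ.2 u hu with e | e <;> rw [e] <;> simp, sum_const, card_univ, nsmul_eq_mul,
    mul_one, S.card_P, ← Nat.card_eq_fintype_card] at h
  exact_mod_cast h

end KleinVals

end CfsgLib.KleinDefect
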