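import Cfsg.Agent.BlocksB.AbelianTwist
import Cfsg.Agent.BlocksB.Star.Weight

/-!
# A block with a four-group as defect group: the inertial index
-/

set_option autoImplicit false
set_option linter.style.haveILetI false
set_option linter.unusedSectionVars false

namespace CfsgLib.KleinDefect

open Cfsg Finset CfsgLib.Block CfsgLib.Block.Chr CfsgLib.BrauerPairs CfsgLib.BlockStar
  CfsgLib.BlockB
open scoped ComplexConjugate
open scoped Classical

universe u

variable {M : Ideal AlgInt} [M.IsPrime] [Fact (Nat.Prime 2)] [CharP (Residue M) 2]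
  {G : Type u} [Group G] [Fintype G]

local notation "𝕜" => Residue M
local notation "Z[" x "]" => Subgroup.zpowers x
local notation "C[" Q "]" => Subgroup.centralizer (SetLike.coe Q)
local notation "N[" Q "]" => Subgroup.normalizer (SetLike.coe Q)

theorem commute_klein {P : Subgroup G} (hV : IsKleinFour P) : ∀ a ∈ P, ∀ b ∈ P, a * b = b * a := by
  intro a ha b hb
  haveI := hV
  exact congrArg Subtype.val (show (⟨a, ha⟩ : P) * ⟨b, hb⟩ = ⟨b, hb⟩ * ⟨a, ha⟩ from
    mul_comm_of_exponent_two IsKleinFour.exponent_two _ _)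

variable {B : Set (IrrCharacter G)} {P : Subgroup G} {c : Set (IrrCharacter C[P])}

/-- The data of a maximal pair of a block with a four-group as defect group. -/
structure KleinData (B : Set (IrrCharacter G)) (P : Subgroup G) (c : Set (IrrCharacter C[P]))
    (n : ℕ) : Prop where
  hM : IsPModular 2 M
  hB : IsPBlock M B
  hPD : IsDefectGroup 2 M B P
  hV : IsKleinFour P
  hc : IsInducedBlock M C[P] c B
  n_eq : n = (C[P] : Subgroup G).relIndex (stab P (idemIn M C[P] c))

namespace KleinData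

variable {n : ℕ} (S : KleinData (M := M) B P c n)
include S

theorem hab : ∀ a ∈ P, ∀ b ∈ P, a * b = b * a := commute_klein S.hV

theorem pair : IsPair 2 (P, idemIn M C[P] c) :=
  (Inertial.maxPair_of_induced S.hM S.hB S.hPD S.hab S.hc).1

theorem maxPair : IsMaxPair 2 (idem M B) (P, idemIn M C[P] c) :=
  (Inertial.maxPair_of_induced S.hM S.hB S.hPD S.hab S.hc).2

theorem card_P : Nat.card P = 4 := S.hV.card_four

theorem sq (u : P) : u * u = 1 := by
  haveI := S.hV
  exact IsKleinFour.mul_self u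

theorem eq_mul {u v w : P} (hu : u ≠ 1) (hv : v ≠ 1) (huv : u ≠ v) (hw : w ≠ 1) (hwu : w ≠ u)
    (hwv : w ≠ v) : w = u * v := by
  haveI := S.hV
  exact IsKleinFour.eq_mul_of_ne_all hu hv huv hw hwu hwv

theorem conj_mem {g u : G} (hg : g ∈ stab P (idemIn M C[P] c)) (hu : u ∈ P) : g * u * g⁻¹ ∈ P :=
  (Subgroup.mem_normalizer_iff.1 hg.1 u).1 hu

theorem conj_conj_three {g : G} {u v w : G} (hu : g * u * g⁻¹ = v) (hv : g * v * g⁻¹ = w) :
    g ^ 2 * u * (g ^ 2)⁻¹ = w := by
  rw [← hv, ← hu, _root_.sq]; group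

theorem mem_centralizer_of_sq {g : G} (hg : g ∈ stab P (idemIn M C[P] c))
    (h : g ^ 2 ∈ (C[P] : Subgroup G)) : g ∈ (C[P] : Subgroup G) :=
  Inertial.mem_centralizer_of_pow S.hM S.hB S.pair S.maxPair S.hab hg (n := 1) (by simpa using h)

/-- **The inertial group acts freely.** -/
theorem free {g u : G} (hg : g ∈ stab P (idemIn M C[P] c)) (hu : u ∈ P) (hu1 : u ≠ 1)
    (h : g * u * g⁻¹ = u) : g ∈ (C[P] : Subgroup G) := by
  refine S.mem_centralizer_of_sq hg (Subgroup.mem_centralizer_iff.2 fun v hv => ?_)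
  have hfix : g ^ 2 * v * (g ^ 2)⁻¹ = v := by
    set w : P := ⟨g * v * g⁻¹, S.conj_mem hg hv⟩
    set u' : P := ⟨u, hu⟩
    set v' : P := ⟨v, hv⟩
    by_cases hv1 : v = 1
    · rw [hv1, mul_one, mul_inv_cancel]
    by_cases hvu : v = u
    · rw [hvu]; exact S.conj_conj_three h h
    by_cases hwv : g * v * g⁻¹ = v
    · exact S.conj_conj_three hwv hwv
    have hw1 : g * v * g⁻¹ ≠ 1 := fun e => hv1 (conj_eq_one_iff.1 e)
    have hwu : g * v * g⁻¹ ≠ u := fun e => hvu (by
      rw [← h] at e; exact mul_left_cancel (mul_right_cancel e))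
    have h1 : w = u' * v' := S.eq_mul (fun e => hu1 (congrArg Subtype.val e))
      (fun e => hv1 (congrArg Subtype.val e)) (fun e => hvu (congrArg Subtype.val e).symm)
      (fun e => hw1 (congrArg Subtype.val e)) (fun e => hwu (congrArg Subtype.val e))
      (fun e => hwv (congrArg Subtype.val e))
    have h2 : g * v * g⁻¹ = u * v := congrArg Subtype.val h1
    refine S.conj_conj_three h2 ?_
    calc g * (u * v) * g⁻¹ = g * u * g⁻¹ * (g * v * g⁻¹) := by group
      _ = (u * u) * v := by rw [h, h2, mul_assoc]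
      _ = v := by rw [show u * u = 1 from congrArg Subtype.val (S.sq u'), one_mul]
  exact (mul_inv_eq_iff_eq_mul.1 hfix).symm

theorem n_pos : 0 < n := by
  rw [S.n_eq]; exact Nat.pos_of_ne_zero Subgroup.index_ne_zero_of_finite

theorem n_odd : ¬ 2 ∣ n := by
  rw [S.n_eq]; exact Inertial.not_dvd_inertial S.hM S.hB S.pair S.maxPair S.hab

theorem n_le : n ≤ 3 := by
  haveI := Fintype.ofFinite P
  set T := stab P (idemIn M C[P] c)
  haveI hN : ((C[P] : Subgroup G).subgroupOf T).Normal :=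
    (Subgroup.normal_subgroupOf_iff_le_normalizer (centralizer_le_stab S.pair)).mpr
      stab_le_normalizer_centralizer
  haveI : Nontrivial P := Finite.one_lt_card_iff_nontrivial.1 (by rw [S.card_P]; norm_num)
  obtain ⟨u, hu⟩ := exists_ne (1 : P)
  have hu' : (u : G) ≠ 1 := fun h => hu (Subtype.ext h)
  let f : T ⧸ (C[P] : Subgroup G).subgroupOf T → {v : P // v ≠ 1} := fun q =>
    ⟨⟨(q.out : G) * u * (q.out : G)⁻¹, S.conj_mem q.out.2 u.2⟩, fun h =>
      hu' (conj_eq_one_iff.1 (congrArg Subtype.val h))⟩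
  have hf : Function.Injective f := by
    intro q r h
    have h1 : (q.out : G) * u * (q.out : G)⁻¹ = (r.out : G) * u * (r.out : G)⁻¹ :=
      congrArg (fun v : {v : P // v ≠ 1} => ((v : P) : G)) h
    have h2 : (((q.out)⁻¹ * r.out : T) : G) ∈ (C[P] : Subgroup G) := by
      refine S.free ((q.out)⁻¹ * r.out : T).2 u.2 hu' ?_
      push_cast
      calc (q.out : G)⁻¹ * r.out * u * ((q.out : G)⁻¹ * r.out)⁻¹
          = (q.out : G)⁻¹ * ((r.out : G) * u * (r.out : G)⁻¹) * q.out := by group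
        _ = u := by rw [← h1]; group
    rw [← QuotientGroup.out_eq' q, ← QuotientGroup.out_eq' r]
    exact QuotientGroup.eq.2 (Subgroup.mem_subgroupOf.2 h2)
  have h := Nat.card_le_card_of_injective f hf
  rw [show Nat.card {v : P // v ≠ 1} = 3 by
    rw [Nat.card_eq_fintype_card, Fintype.card_subtype_compl, Fintype.card_subtype_eq,
      ← Nat.card_eq_fintype_card, S.card_P]] at h
  rw [S.n_eq, Subgroup.relIndex, Subgroup.index]
  exact h

theorem n_cases : n = 1 ∨ n = 3 := by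
  have := S.n_pos; have := S.n_le; have := S.n_odd; omega

/-- With index three the inertial group is transitive on the involutions. -/
theorem exists_conj (hn : n = 3) {u v : G} (hu : u ∈ P) (hu1 : u ≠ 1) (hv : v ∈ P) (hv1 : v ≠ 1) :
    ∃ g ∈ stab P (idemIn M C[P] c), g * u * g⁻¹ = v := by
  by_cases huv : u = v
  · exact ⟨1, one_mem _, by simp [huv]⟩
  obtain ⟨g, hg, hgC⟩ : ∃ g ∈ stab P (idemIn M C[P] c), g ∉ (C[P] : Subgroup G) := by
    by_contra h
    simp only [not_exists, not_and, not_not] at h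
    have h1 := S.n_eq
    rw [Subgroup.relIndex_eq_one.2 h] at h1
    omega
  have hne : ∀ w ∈ P, w ≠ 1 → g * w * g⁻¹ ≠ w := fun w hw hw1 h => hgC (S.free hg hw hw1 h)
  have hne2 : g ^ 2 * u * (g ^ 2)⁻¹ ≠ u := fun h =>
    hgC (S.mem_centralizer_of_sq hg (S.free (pow_mem hg 2) hu hu1 h))
  set w := g * u * g⁻¹ with hw
  by_cases hwv : w = v
  · exact ⟨g, hg, hwv⟩
  refine ⟨g ^ 2, pow_mem hg 2, ?_⟩
  have hwP := S.conj_mem hg hu
  have hw1 : w ≠ 1 := fun e => hu1 (conj_eq_one_iff.1 e)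
  have hx : g * w * g⁻¹ = g ^ 2 * u * (g ^ 2)⁻¹ := by rw [hw, _root_.sq]; group
  have hxP := S.conj_mem hg hwP
  have h1 : (⟨v, hv⟩ : P) = ⟨u, hu⟩ * ⟨w, hwP⟩ := S.eq_mul (fun e => hu1 (congrArg Subtype.val e))
    (fun e => hw1 (congrArg Subtype.val e)) (fun e => hne u hu hu1 (congrArg Subtype.val e).symm)
    (fun e => hv1 (congrArg Subtype.val e)) (fun e => huv (congrArg Subtype.val e).symm)
    (fun e => hwv (congrArg Subtype.val e).symm)
  have h2 : (⟨g * w * g⁻¹, hxP⟩ : P) = ⟨u, hu⟩ * ⟨w, hwP⟩ :=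
    S.eq_mul (fun e => hu1 (congrArg Subtype.val e))
      (fun e => hw1 (congrArg Subtype.val e)) (fun e => hne u hu hu1 (congrArg Subtype.val e).symm)
      (fun e => hw1 (conj_eq_one_iff.1 (congrArg Subtype.val e)))
      (fun e => hne2 (hx ▸ congrArg Subtype.val e))
      (fun e => hne w hwP hw1 (congrArg Subtype.val e))
  rw [← hx]
  exact congrArg Subtype.val (h2.trans h1.symm)

theorem subBlk_conj {g u : G} (hg : g ∈ stab P (idemIn M C[P] c)) (hu : u ∈ P) :
    cj 𝕜 g (subBlk 2 P (idemIn M C[P] c) u) = subBlk 2 P (idemIn M C[P] c) (g * u * g⁻¹) :=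
  AbelianTwist.subBlk_conj_stab S.pair hg hu

/-- **Sums over the nontrivial subsections.** -/
theorem sum_pairs_free [Fintype P] (F : G → MonoidAlgebra 𝕜 G → ℂ)
    (hF0 : ∀ x ∈ pSet 2 G, ∀ f ∈ blks M x, ¬ IsPairOf 2 (idem M B) (Z[x], f) → F x f = 0)
    (hFG : ∀ x ∈ pSet 2 G, ∀ f ∈ blks M x, ∀ g, F (g * x * g⁻¹) (cj 𝕜 g f) = F x f) :
    (Nat.card G : ℂ) * ∑ u ∈ univ.filter (fun u : P => u ≠ 1),
        F (u : G) (subBlk 2 P (idemIn M C[P] c) (u : G)) =
      (n : ℂ) * ∑ x ∈ (pSet 2 G).filter (· ≠ 1),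
        (Nat.card C[Z[x]] : ℂ) * ∑ f ∈ blks M x, F x f := by
  set T := stab P (idemIn M C[P] c)
  let F' : G → MonoidAlgebra 𝕜 G → ℂ := fun x f => if x = 1 then 0 else F x f
  have h := AbelianTwist.sum_pairs S.hM S.hB S.maxPair S.hab F'
    (fun x hx f hf hn => by
      by_cases h1 : x = 1
      · simp [F', h1]
      · simp only [F', if_neg h1]; exact hF0 x hx f hf hn)
    (fun x hx f hf g => by
      by_cases h1 : x = 1
      · simp [F', h1]
      · have h2 : g * x * g⁻¹ ≠ 1 := fun e => h1 (conj_eq_one_iff.1 e)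
        simp only [F', if_neg h1, if_neg h2]; exact hFG x hx f hf g)
  have hL : ∑ u : P, (AbelianTwist.cnt T u : ℂ) * F' (u : G) (subBlk 2 P (idemIn M C[P] c) u) =
      (Nat.card C[P] : ℂ) * ∑ u ∈ univ.filter (fun u : P => u ≠ 1),
        F (u : G) (subBlk 2 P (idemIn M C[P] c) (u : G)) := by
    rw [mul_sum, sum_filter]
    refine sum_congr rfl fun u _ => ?_
    by_cases hu : u = 1
    · simp [F', hu]
    have hu' : (u : G) ≠ 1 := fun e => hu (Subtype.ext e)
    have hC : T ⊓ C[Z[(u : G)]] = C[P] := by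
      refine le_antisymm (fun g hg => ?_) (le_inf (centralizer_le_stab S.pair)
        (Subgroup.centralizer_le (SetLike.coe_subset_coe.mpr (Subgroup.zpowers_le.2 u.2))))
      exact S.free hg.1 u.2 hu' (mul_inv_eq_iff_eq_mul.2 (mem_cz.1 hg.2))
    rw [if_pos hu]
    simp only [F', if_neg hu', AbelianTwist.cnt, hC]
  have hR : ∑ x ∈ pSet 2 G, (Nat.card C[Z[x]] : ℂ) * ∑ f ∈ blks M x, F' x f =
      ∑ x ∈ (pSet 2 G).filter (· ≠ 1), (Nat.card C[Z[x]] : ℂ) * ∑ f ∈ blks M x, F x f := by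
    rw [sum_filter]
    refine sum_congr rfl fun x _ => ?_
    by_cases hx : x = 1
    · simp [F', hx]
    · simp [F', hx]
  have hT : (Nat.card T : ℂ) = (n : ℂ) * Nat.card C[P] := by
    rw [← Nat.cast_mul, S.n_eq, Subgroup.relIndex, mul_comm,
      ← Nat.card_congr (Subgroup.subgroupOfEquivOfLe (centralizer_le_stab S.pair)).toEquiv,
      Subgroup.card_mul_index]
  rw [hL, hR, hT] at h
  refine mul_left_cancel₀ (Nat.cast_ne_zero.2 (Nat.card_pos (α := C[P])).ne' :
    (Nat.card C[P] : ℂ) ≠ 0) ?_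
  linear_combination h

/-- **The identity decomposes along the subsections.** -/
theorem inner_decomp [Fintype P] {χ ψ : IrrCharacter G} (hχψ : χ ∈ B ∨ ψ ∈ B) :
    (if χ = ψ then 1 else 0 : ℂ) =
      classInner (regPart 2 (χ : G → ℂ)) (regPart 2 (ψ : G → ℂ)) +
      (n : ℂ)⁻¹ * ∑ u ∈ univ.filter (fun u : P => u ≠ 1),
        contribR 2 χ ψ (u : G) (subBlk 2 P (idemIn M C[P] c) (u : G)) := by
  have hM := S.hM
  have hδ : ∀ φ : IrrCharacter G, starFun 2 (fun x (_ : MonoidAlgebra 𝕜 G) =>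
      if x = 1 then (1 : ℂ) else 0) φ = regPart 2 (φ : G → ℂ) := fun φ => funext fun g => by
    obtain ⟨x, s, h, rfl⟩ := exists_pElt 2 g
    by_cases hx : x = 1
    · subst hx
      rw [starFun_eq _ φ h rfl, wsum_one_eq hM _ φ h, one_mul,
        regPart_of_not_dvd h.reg]
      have h2 := wsum_const_one (M := M) hM φ h
      rw [wsum_one_eq hM _ φ h, one_mul] at h2
      simpa using h2
    · rw [starFun_eq _ φ h rfl, wsum_one_eq hM _ φ h, regPart_of_dvd ?_]
      · simp [hx]
      · obtain ⟨j, hj⟩ := orderOf_eq_pow h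
        have hj0 : j ≠ 0 := fun e => hx (orderOf_eq_one_iff.1 (by rw [hj, e, pow_zero]))
        rw [h.comm.orderOf_mul_eq_mul_orderOf_of_coprime (by
          rw [hj]; exact ((Fact.out : Nat.Prime 2).coprime_iff_not_dvd.2 h.reg).pow_left j), hj]
        exact dvd_mul_of_dvd_left (dvd_pow_self 2 hj0) _
  have h1mem : (1 : G) ∈ pSet 2 G := mem_pSet.2 ⟨0, by simp⟩
  rw [← classInner_irr, ← starFun_const_one (M := M) hM χ, ← starFun_const_one (M := M) hM ψ,
    classInner_starFun' hM, starFun_const_one hM, starFun_const_one hM, ← hδ χ, ← hδ ψ,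
    classInner_starFun' hM, ← sum_filter_add_sum_filter_not (pSet 2 G) (fun x => x = 1), mul_add]
  congr 1
  · congr 1
    rw [sum_filter]
    refine sum_congr rfl fun x _ => ?_
    by_cases hx : x = 1 <;> simp [hx]
  · simp only [map_one, one_mul]
    have h2 := S.sum_pairs_free (fun x f => contribR 2 χ ψ x f)
      (fun x hx f hf hn => contribR_eq_zero hM S.hB hχψ hx (mem_blks.1 hf) hn)
      (fun x hx f hf g => contribR_conj hM χ ψ hx (mem_blks.1 hf) g)
    have hn0 : (n : ℂ) ≠ 0 := Nat.cast_ne_zero.2 S.n_pos.ne'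
    have hG0 : (Nat.card G : ℂ) ≠ 0 := Nat.cast_ne_zero.2 Nat.card_pos.ne'
    rw [eq_inv_mul_iff_mul_eq₀ hn0, mul_left_comm, ← h2, inv_mul_cancel_left₀ hG0]

end KleinData

end CfsgLib.KleinDefect
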