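import Cfsg.Agent.BlocksB.KleinDefect.Setup
import Cfsg.Agent.BlocksB.Cyclic.Values

/-!
# A block with a four-group as defect group: the values on a subsection
-/

set_option autoImplicit false
set_option linter.style.haveILetI false
set_option linter.unusedSectionVars false

namespace CfsgLib.KleinDefect

open Cfsg Finset CfsgLib.Block CfsgLib.Block.Chr CfsgLib.BrauerPairs CfsgLib.BlockStar
  CfsgLib.BlockB CfsgLib.Cyclic
open scoped ComplexConjugate
open scoped Classical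

universe u

variable {M : Ideal AlgInt} [M.IsPrime] [Fact (Nat.Prime 2)] [CharP (Residue M) 2]
  {G : Type u} [Group G] [Fintype G]

local notation "𝕜" => Residue M
local notation "Z[" x "]" => Subgroup.zpowers x
local notation "C[" Q "]" => Subgroup.centralizer (SetLike.coe Q)
local notation "N[" Q "]" => Subgroup.normalizer (SetLike.coe Q)

namespace KleinData

variable {B : Set (IrrCharacter G)} {P : Subgroup G} {c : Set (IrrCharacter C[P])} {n : ℕ}
  (S : KleinData (M := M) B P c n)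
include S

/-- **The values on a subsection.** -/
theorem exists_value [Fintype P] {u₀ : P} (hu₀ : u₀ ≠ 1) :
    ∃ a : IrrCharacter G → ℤ, ∀ χ ψ : IrrCharacter G,
      contribR 2 χ ψ (u₀ : G) (subBlk 2 P (idemIn M C[P] c) (u₀ : G)) =
        (a χ : ℂ) * (a ψ : ℂ) * (4 : ℂ)⁻¹ := by
  have hM := S.hM
  have hab := S.hab
  have hP := S.pair
  set e := idemIn M C[P] c
  set Z := Z[(u₀ : G)] with hZ
  have hZP : Z ≤ P := Subgroup.zpowers_le.mpr u₀.2
  set L := C[Z] with hL
  have hPC : P ≤ L := fun x hx => Subgroup.mem_centralizer_iff.mpr fun y hy => hab y (hZP hy) x hx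
  have hfree : ∀ s ∈ stab P e, s ∈ (C[Z] : Subgroup G) → s ∈ (C[P] : Subgroup G) := fun s hs hsZ =>
    S.free hs u₀.2 (fun h => hu₀ (Subtype.ext h)) (mul_inv_eq_iff_eq_mul.2
      (Subgroup.mem_centralizer_iff.1 hsZ (u₀ : G) (Subgroup.mem_zpowers _)).symm)
  obtain ⟨f, hf⟩ := Inertial.exists_inducedIn hM hP.1 S.hc.1 hab hZP
  haveI := Fintype.ofFinite L
  letI := irrFintype (G := L)
  obtain ⟨e', hee', hP', hmax'⟩ := Inertial.local_maxPair hM S.hB hP S.maxPair hab hZP hf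
  set P' := P.subgroupOf L with hP'def
  haveI := Fintype.ofFinite P'
  have hfB : IsPBlock M f := hf.2.1
  have hnil : IsNil 2 (idem M f) := ((isNilpotentBlock_iff hM).1
    (Inertial.isNilpotentBlock_local hM S.hB hP S.maxPair hab hZP hfree hf)).2
  obtain ⟨χ₀, hχ₀, h0⟩ := exists_height_zero hM hfB
  obtain ⟨Φ, -, hΦ⟩ := exists_characters hM hfB hnil hmax' hχ₀ h0
  have hinner := exists_conj_mem hM hfB hnil hmax'
  let φ : P' ≃* P := Subgroup.subgroupOfEquivOfLe hPC
  have hab' : ∀ a b : P', a * b = b * a := fun a b =>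
    Subtype.ext (Subtype.ext (hab _ a.2 _ b.2))
  let Λ : (P →* ℂˣ) ≃ IrrCharacter P' :=
    ({ toFun := fun l => l.comp φ.toMonoidHom, invFun := fun l => l.comp φ.symm.toMonoidHom
       left_inv := fun l => MonoidHom.ext fun a => by simp
       right_inv := fun l => MonoidHom.ext fun a => by simp } :
      (P →* ℂˣ) ≃ (P' →* ℂˣ)).trans <| CfsgLib.Char.linearCharEquiv.trans
        (Equiv.subtypeUnivEquiv fun χ =>
          CfsgLib.Char.IsIrrCharacter.apply_one_eq_one χ.2 hab')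
  have hΛ : ∀ (l : P →* ℂˣ) (u : P'), (Λ l : P' → ℂ) u = (l (φ u) : ℂ) := fun l u => rfl
  -- restriction multiplicities
  have hN : ∀ (χ : IrrCharacter G) (ξ : IrrCharacter L), ∃ m : ℕ,
      classInner (fun l : L => (χ : G → ℂ) l) (ξ : L → ℂ) = (m : ℂ) := fun χ ξ =>
    CfsgLib.Char.IsCharacter.exists_classInner_eq_natCast
      (CfsgLib.Char.IsCharacter.restrict (isCharacter_irr χ) L) ξ.2
  choose N hN using hN
  -- the pairs inside the centralizer
  let u' : P → L := fun u => ⟨(u : G), hPC u.2⟩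
  have hu' : ∀ u : P, u' u ∈ P' := fun u => Subgroup.mem_subgroupOf.2 u.2
  let ε : P → MonoidAlgebra 𝕜 L := fun u => subBlk 2 P' e' (u' u)
  have hεblk : ∀ u : P, IsBlk 𝕜 C[Z[u' u]] (ε u) := fun u =>
    (PLE.isPair (subBlk_ple hP' (hu' u)) hP').2
  have hmapP : P'.map L.subtype = P := Subgroup.map_subgroupOf_eq_of_le hPC
  have hCle : ∀ u : P, u = u₀ → (C[Z[(u : G)]] : Subgroup G) ≤ L := fun u hu => by
    rw [hu]
  have hmapZ : ∀ u : P, Z[u' u].map L.subtype = Z[(u : G)] := fun u => MonoidHom.map_zpowers _ _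
  have hemb : ∀ u : P, u = u₀ → emb L (ε u) = subBlk 2 P e (u : G) := fun u hu => by
    have h1 := ple_embPair L (by rw [hmapZ]; exact hCle u hu) (subBlk_ple hP' (hu' u))
    rw [show embPair L (P', e') = (P, e) from Prod.ext hmapP hee',
      show embPair L (Z[u' u], ε u) = (Z[(u : G)], emb L (ε u)) from
        Prod.ext (hmapZ u) rfl] at h1
    exact ple_unique hP h1 (subBlk_ple hP u.2)
  have hPE : ∀ (u : P) (s : L), PElt 2 (u' u) s → PElt 2 (u : G) (s : G) := fun u s h =>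
    ⟨by obtain ⟨j, hj⟩ := h.pow; exact ⟨j, congrArg Subtype.val hj⟩,
      by rw [Subgroup.orderOf_coe]; exact h.reg, h.comm.map L.subtype⟩
  -- the characters outside the block
  have hout : ∀ ξ : IrrCharacter L, ξ ∉ f → ∀ u s, PElt 2 (u' u) s → val ξ (u' u) s (ε u) = 0 := by
    intro ξ hξ u s h
    refine val_eq_zero_of_not_pair hM (isPBlock_blockOf ξ) (mem_blockOf_self ξ) h (hεblk u)
      fun hp => hξ ?_
    have h1 : IsPairOf 2 (idem M f) (Z[u' u], ε u) :=
      (isPairOf_iff_of_ple (isBlk_idem hM hfB) (subBlk_ple hP' (hu' u)) hP').2 hmax'.1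
    have h2 := (existsUnique_isPairOf (h1.1)).unique ⟨isBlk_idem hM (isPBlock_blockOf ξ), hp⟩
      ⟨isBlk_idem hM hfB, h1⟩
    rw [← idem_injective (isPBlock_blockOf ξ) hfB h2]
    exact mem_blockOf_self ξ
  have hval : ∀ (ζ : IrrCharacter P') (u : P) (s : L), PElt 2 (u' u) s →
      val (Φ ζ : IrrCharacter L) (u' u) s (ε u) =
        (ζ : P' → ℂ) ⟨u' u, hu' u⟩ * val χ₀ (u' u) s (ε u) := by
    intro ζ u s h
    haveI := Fintype.ofFinite C[Z[u' u]]
    obtain ⟨d, hd, hde⟩ := exists_idemIn_eq hM (hεblk u)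
    rw [← hde, val_idemIn hM _ h hd, val_idemIn hM _ h hd,
      subPart_starFun hM (hΦ ζ) (mem_pSet.2 h.pow) hd, Pi.smul_apply, smul_eq_mul, hde,
      weight_of_ple (stable_extend hinner (isClassFunction_irr ζ)) (subBlk_ple hP' (hu' u))]
    congr 1
    exact extend_apply_mem (ζ : P' → ℂ) ⟨u' u, hu' u⟩
  let m0 : IrrCharacter G → (P →* ℂˣ) → ℕ := fun χ l => N χ (Φ (Λ l))
  have hvalG : ∀ (χ : IrrCharacter G) (u : P), u = u₀ → ∀ s : L, PElt 2 (u' u) s →
      val χ (u : G) (s : G) (subBlk 2 P e (u : G)) = aval (m0 χ) u * val χ₀ (u' u) s (ε u) := by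
    intro χ u hu s h
    rw [← hemb u hu, show (u : G) = ((u' u : L) : G) from rfl,
      val_emb hM L χ h (hPE u s h) (hεblk u).idem ((hεblk u).fixBy.mono (sup_le_cz h)),
      ← sum_subset (subset_univ (univ.filter (· ∈ f))) (fun ξ _ hξ => by
        rw [hout ξ (fun hm => hξ (mem_filter.2 ⟨mem_univ _, hm⟩)) u s h, mul_zero]),
      sum_subtype (univ.filter (· ∈ f)) (p := (· ∈ f)) (by simp)
        (fun ξ : IrrCharacter L => classInner (fun l : L => (χ : G → ℂ) l) (ξ : L → ℂ) *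
          val ξ (u' u) s (ε u)), aval, sum_mul, ← (Λ.trans Φ).sum_comp]
    refine sum_congr rfl fun l _ => ?_
    rw [Equiv.trans_apply, hval _ u s h, hN, hΛ, ← mul_assoc]
    rfl
  -- the contributions
  have hcz : ∀ u : P, u = u₀ → (C[Z[u' u]]).map L.subtype = C[Z[(u : G)]] := fun u hu => by
    rw [map_centralizer_subtype L _ (by rw [hmapZ]; exact hCle u hu), hmapZ]
  have hone : ∀ u : P, contribR 2 χ₀ χ₀ (u' u) (ε u) = (Nat.card P : ℂ)⁻¹ := fun u => by
    have h1 := aFun_eq_one hM hfB hnil hmax' hχ₀ h0 (hu' u)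
    have hI : P' ⊓ C[Z[u' u]] = P' := inf_eq_left.2 fun y hy => mem_cz.2
      (Subtype.ext (hab _ hy _ u.2))
    rw [aFun, hI, Nat.card_congr φ.toEquiv] at h1
    exact eq_inv_of_mul_eq_one_right h1
  have hcontrib : ∀ χ ψ : IrrCharacter G, ∀ u : P, u = u₀ →
      contribR 2 χ ψ (u : G) (subBlk 2 P e (u : G)) =
        aval (m0 χ) u * conj (aval (m0 ψ) u) * (Nat.card P : ℂ)⁻¹ := by
    intro χ ψ u hu
    rw [← hone u, contribR, contribR, ← hcz u hu, Subgroup.card_map_of_injective L.subtype_injective,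
      mul_left_comm]
    congr 1
    rw [mul_sum, hcz u hu]
    symm
    refine sum_bij (fun s _ => (s : G)) ?_ ?_ ?_ ?_
    · intro s hs
      obtain ⟨-, h1, h2⟩ := mem_filter.1 hs
      refine mem_filter.2 ⟨mem_univ _, hcz u hu ▸ ⟨s, h1, rfl⟩, ?_⟩
      rwa [Subgroup.orderOf_coe]
    · exact fun _ _ _ _ h => Subtype.ext h
    · intro g hg
      obtain ⟨-, h1, h2⟩ := mem_filter.1 hg
      obtain ⟨s, hs, rfl⟩ := (hcz u hu).ge h1
      exact ⟨s, mem_filter.2 ⟨mem_univ _, hs, by rwa [Subgroup.coe_subtype, Subgroup.orderOf_coe] at h2⟩, rfl⟩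
    · intro s hs
      obtain ⟨-, h1, h2⟩ := mem_filter.1 hs
      have h : PElt 2 (u' u) s :=
        ⟨mem_pSet.1 (mem_pSet_of_mem hP' (hu' u)), h2, (mem_cz.1 h1).symm⟩
      rw [hvalG χ u hu s h, hvalG ψ u hu s h, map_mul]
      ring
  have hsq : ∀ l : P →* ℂˣ, ∃ s : ℤ, ((l u₀ : ℂˣ) : ℂ) = (s : ℂ) := fun l => by
    have h1 : ((l u₀ : ℂˣ) : ℂ) * (l u₀ : ℂˣ) = 1 := by
      rw [← Units.val_mul, ← map_mul, S.sq, map_one, Units.val_one]
    rcases mul_self_eq_one_iff.1 h1 with h | h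
    · exact ⟨1, by rw [h, Int.cast_one]⟩
    · exact ⟨-1, by rw [h, Int.cast_neg, Int.cast_one]⟩
  choose s hs using hsq
  refine ⟨fun χ => ∑ l, (m0 χ l : ℤ) * s l, fun χ ψ => ?_⟩
  have hav : ∀ χ, aval (m0 χ) u₀ = ((∑ l, (m0 χ l : ℤ) * s l : ℤ) : ℂ) := fun χ => by
    rw [aval, Int.cast_sum]
    exact sum_congr rfl fun l _ => by rw [hs]; push_cast; rfl
  rw [hcontrib χ ψ u₀ rfl, hav, hav, map_intCast, S.card_P]
  norm_num

end KleinData

end CfsgLib.KleinDefect
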